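import Cfsg.Agent.H760.QuasiNormal
set_option linter.all false

/-!
# Components and normal subsystems; existence of the layer (helper760)

The meet of two normal subsystems (S5129) is taken as a hypothesis `MeetProp` here.
-/

set_option autoImplicit false

namespace Cfsg.Agent.H760

open Cfsg Cfsg.FusionSystem Cfsg.Agent.H752

variable {Ω : Type*} [Group Ω]

/-- The statement of S5129 for one ambient group and one prime: the meet of two normal subsystems. -/
def MeetProp (Ω : Type*) [Group Ω] (p : ℕ) : Prop :=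
  ∀ (S : Subgroup Ω) (_ : Finite S) (_ : IsPGroup p S) (F : FusionSystem S) (_ : F.IsSaturated p)
    (T₁ T₂ : Subgroup Ω) (E₁ : FusionSystem T₁) (E₂ : FusionSystem T₂) (_ : E₁.IsNormalIn F p)
    (_ : E₂.IsNormalIn F p), ∃ D : FusionSystem (T₁ ⊓ T₂), D.IsNormalIn F p ∧ D.IsNormalIn E₁ p ∧
      D.IsNormalIn E₂ p

variable {S T R : Subgroup Ω}

theorem quasisimple_not_le_center {F : FusionSystem S} [Finite S] {p : ℕ} (hF : F.Quasisimple p) :
    ¬ S ≤ F.center := by
  intro hle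
  obtain ⟨-, -, hsimple⟩ := hF
  have hZs : F.StronglyClosed F.center := H757.stronglyClosed_center F
  have hker : ∀ s : S, QuotientGroup.mk' ((F.center).subgroupOf S) s = 1 ↔ (s : Ω) ∈ F.center := by
    intro s
    rw [← Subgroup.mem_subgroupOf]
    exact QuotientGroup.eq_one_iff s
  have hr : (QuotientGroup.mk' ((F.center).subgroupOf S)).range = ⊤ := by
    rw [MonoidHom.range_eq_top]
    exact QuotientGroup.mk'_surjective _
  obtain ⟨F', hF'⟩ := H759.exists_factorSystem (F := F) hZs hker hr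
  obtain ⟨-, hne, -⟩ := hsimple F' hF'
  apply hne
  rw [eq_bot_iff]
  intro x _
  obtain ⟨s, rfl⟩ := QuotientGroup.mk'_surjective _ x
  exact Subgroup.mem_bot.2 ((hker s).2 (hle s.2))

/-- Systems with the same maps are equal. -/
theorem ext_hom {E D : FusionSystem T} (h : ∀ P : Subgroup Ω, E.Hom P = D.Hom P) : E = D := by
  cases E with
  | mk H1 _ _ _ _ _ =>
    cases D with
    | mk H2 _ _ _ _ _ =>
      have : H1 = H2 := funext h
      subst this
      rfl

/-- **Dichotomy**: for a quasisimple subnormal `C` over `U` and a normal subsystem `D` over `R`, either `C` is subnormal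
in `D` or `U ⊓ R ≤ Z(C)`. -/
theorem subnormal_or_inf_le_center {p : ℕ} (hW : MeetProp Ω p) {U : Subgroup Ω} {C : FusionSystem U}
    {F : FusionSystem S} (h : C.IsSubnormalIn F p) :
    ∀ (_ : Finite S) (_ : Fact p.Prime) (_ : IsPGroup p S) (_ : F.IsSaturated p)
      (_ : C.Quasisimple p) (R : Subgroup Ω) (D : FusionSystem R) (_ : D.IsNormalIn F p),
      C.IsSubnormalIn D p ∨ U ⊓ R ≤ C.center := by
  induction h with
  | refl F p =>
    intro _ _ hS _ hC R D hD
    rcases normal_of_quasisimple hS hC hD with h | ⟨h1, h2⟩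
    · exact Or.inr (inf_le_right.trans h)
    · left
      subst h1
      rw [ext_hom h2]
      exact IsSubnormalIn.refl F p
  | @step U₁ S C G F p hCG hGF ih =>
    intro _ _ hS hF hC R D hD
    obtain ⟨D₁, hD₁F, hD₁G, hD₁D⟩ := hW S ‹_› hS F hF U₁ R G D hGF hD
    have hU₁S : U₁ ≤ S := hGF.1.2.2.2.1.1
    have hfU : Finite U₁ := H802.finite_of_le hU₁S
    have hUU₁ : U ≤ U₁ := le_of_isSubsystemOf (isSubsystemOf_of_isSubnormalIn hCG)
    rcases ih hW hfU ‹_› (hS.to_le hU₁S) hGF.1.1 hC _ D₁ hD₁G with h | h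
    · left
      exact IsSubnormalIn.step h hD₁D
    · right
      rw [← inf_assoc, inf_eq_left.2 hUU₁] at h
      exact h

theorem le_or_inf_le_center [Finite S] {p : ℕ} [Fact p.Prime] (hW : MeetProp Ω p)
    (hS : IsPGroup p S) {F : FusionSystem S} (hF : F.IsSaturated p) {U : Subgroup Ω}
    {C : FusionSystem U} (hC : C.IsComponentIn F p) {D : FusionSystem R} (hD : D.IsNormalIn F p) :
    C.IsComponentIn D p ∨ U ⊓ R ≤ C.center := by
  rcases subnormal_or_inf_le_center hW hC.1 ‹_› ‹_› hS hF hC.2 R D hD with h | h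
  · exact Or.inl ⟨h, hC.2⟩
  · exact Or.inr h

/-- A component contained in a normal subsystem is a component of it. -/
theorem isComponentIn_of_le [Finite S] {p : ℕ} [Fact p.Prime] (hW : MeetProp Ω p)
    (hS : IsPGroup p S) {F : FusionSystem S} (hF : F.IsSaturated p) {U : Subgroup Ω}
    {C : FusionSystem U} (hC : C.IsComponentIn F p) {D : FusionSystem R} (hD : D.IsNormalIn F p)
    (hUR : U ≤ R) : C.IsComponentIn D p := by
  have hUS : U ≤ S := le_of_isSubsystemOf (isSubsystemOf_of_isSubnormalIn hC.1)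
  have hfU : Finite U := H802.finite_of_le hUS
  rcases le_or_inf_le_center hW hS hF hC hD with h | h
  · exact h
  · rw [inf_eq_left.2 hUR] at h
    exact absurd h (quasisimple_not_le_center hC.2)

/-- A component over a subgroup of the base of a normal subsystem lies in it. -/
theorem component_le_of_le [Finite S] {p : ℕ} [Fact p.Prime] (hW : MeetProp Ω p) (hS : IsPGroup p S)
    {F : FusionSystem S} (hF : F.IsSaturated p) {U : Subgroup Ω} {C : FusionSystem U}
    (hC : C.IsComponentIn F p) {D : FusionSystem R} (hD : D.IsNormalIn F p) (hUR : U ≤ R) :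
    C.IsSubsystemOf D :=
  isSubsystemOf_of_isSubnormalIn (isComponentIn_of_le hW hS hF hC hD hUR).1

/-! ### The set of graphs of the maps of a system -/

/-- The set of graphs of the maps of a system, inside a finite type. -/
def graphs (S : Subgroup Ω) {T : Subgroup Ω} (E : FusionSystem T) : Set (Set (S × S)) :=
  {A | ∃ (P : Subgroup Ω) (f : Ω → Ω), Mp E P f ∧
    ∀ x y : S, (x, y) ∈ A ↔ (x : Ω) ∈ P ∧ f x = y}

theorem graphs_mono {E : FusionSystem T} {D : FusionSystem R} (h : E.IsSubsystemOf D) :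
    graphs S E ⊆ graphs S D := by
  rintro A ⟨P, f, hf, hA⟩
  exact ⟨P, f, mp_mono h hf, hA⟩

theorem isSubsystemOf_of_graphs {E : FusionSystem T} {D : FusionSystem R} (hTS : T ≤ S)
    (hRS : R ≤ S) (h : graphs S E ⊆ graphs S D) : E.IsSubsystemOf D := by
  refine isSubsystemOf_of_mp fun P f hf => ?_
  have hA : {z : S × S | (z.1 : Ω) ∈ P ∧ f z.1 = z.2} ∈ graphs S E :=
    ⟨P, f, hf, fun x y => Iff.rfl⟩
  obtain ⟨P₁, f₁, hf₁, h1⟩ := h hA
  have hPS : P ≤ S := hf.le.trans hTS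
  have hP₁S : P₁ ≤ S := hf₁.le.trans hRS
  have h2 : ∀ x : S, ∀ y : S, ((x : Ω) ∈ P ∧ f x = y) ↔ ((x : Ω) ∈ P₁ ∧ f₁ x = y) :=
    fun x y => h1 x y
  have h3 : P = P₁ := by
    ext x
    constructor
    · intro hx
      exact ((h2 ⟨x, hPS hx⟩ ⟨f x, hTS (hf.mem hx)⟩).1 ⟨hx, rfl⟩).1
    · intro hx
      exact ((h2 ⟨x, hP₁S hx⟩ ⟨f₁ x, hRS (hf₁.mem hx)⟩).2 ⟨hx, rfl⟩).1
  subst h3
  refine hf₁.congr fun x hx => ?_
  exact ((h2 ⟨x, hPS hx⟩ ⟨f x, hTS (hf.mem hx)⟩).1 ⟨hx, rfl⟩).2.symm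

/-- The whole system is normal in itself. -/
theorem isNormalIn_self [Finite S] {p : ℕ} {F : FusionSystem S} (hF : F.IsSaturated p) :
    F.IsNormalIn F p := by
  have hfS : Finite S := ‹_›
  rw [isNormalIn_iff le_rfl]
  refine ⟨hF, hF, isInvariantIn_iff.2 ⟨fun P φ h => h, H759.StronglyClosed.top, ?_, ?_⟩, ?_⟩
  · intro P R f a h hf ha hR
    have ham : ∀ x ∈ S, a x ∈ S := fun x hx => ha.mem hx
    obtain ⟨R₁, hR₁, hR₁S, -⟩ := (ha.res hf.le).exists_image le_rfl
    obtain ⟨b, hb, h1, h2⟩ := (ha.res hf.le).exists_symm le_rfl hR₁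
    have h3 : R ≤ R₁ := fun y hy => by
      obtain ⟨x, hx, h4, -⟩ := hR y hy
      exact (hR₁ y).2 ⟨x, hx, h4⟩
    refine ((((hb.res h3).comp hf fun y hy => (h2 y (h3 hy)).1).comp ha
      fun y hy => hf.mem (h2 y (h3 hy)).1)).congr fun y hy => ?_
    obtain ⟨x, hx, h4, h5⟩ := hR y hy
    rw [h5, ← h4, h1 x hx]
  · intro P f hP hf
    exact FratC.of_mp le_rfl hf
  · intro a ha
    have hC : centralizerIn S S ≤ S := inf_le_left
    have hle : S ⊔ centralizerIn S S ≤ S := sup_le le_rfl hC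
    refine ⟨a, ha.res hle, fun x _ => rfl, fun c hc => ?_⟩
    refine ⟨mul_mem (Subgroup.inv_mem _ hc.1) (ha.mem hc.1), ?_⟩
    -- both `c` and `a c` are central in `S`
    have h1 : ∀ t ∈ S, t * c = c * t := (mem_centralizerIn.1 hc).2
    have h2 : ∀ t ∈ S, t * a c = a c * t := by
      intro t ht
      obtain ⟨t₀, ht₀, rfl⟩ := ha.surj (fun x hx => ha.mem hx) ht
      rw [← ha.mul ht₀ hc.1, ← ha.mul hc.1 ht₀, h1 t₀ ht₀]
    refine Subgroup.mem_centralizer_iff.2 fun t ht => ?_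
    have h3 := h1 t ht
    have h4 := h2 t ht
    calc t * (c⁻¹ * a c) = c⁻¹ * (c * t) * c⁻¹ * a c := by group
      _ = c⁻¹ * (t * c) * c⁻¹ * a c := by rw [h3]
      _ = c⁻¹ * (t * a c) := by group
      _ = c⁻¹ * (a c * t) := by rw [h4]
      _ = c⁻¹ * a c * t := by group

/-- **Existence of the layer.** -/
theorem exists_layer [Finite S] {p : ℕ} [Fact p.Prime] (hW : MeetProp Ω p) (hS : IsPGroup p S)
    {F : FusionSystem S} (hF : F.IsSaturated p) :
    ∃ (T : Subgroup Ω) (E : FusionSystem T), E.IsLayerOf F p := by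
  classical
  -- normal subsystems containing all components
  let Good : (Σ R : Subgroup Ω, FusionSystem R) → Prop := fun D =>
    D.2.IsNormalIn F p ∧
      ∀ (U : Subgroup Ω) (C : FusionSystem U), C.IsComponentIn F p → C.IsSubsystemOf D.2
  have hne : ∃ D, Good D :=
    ⟨⟨S, F⟩, isNormalIn_self hF, fun U C hC => isSubsystemOf_of_isSubnormalIn hC.1⟩
  have hfin : Finite (Set (Set (S × S))) := inferInstance
  let 𝒜 : Set (Set (Set (S × S))) := {A | ∃ D, Good D ∧ A = graphs S D.2}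
  have h𝒜 : 𝒜.Nonempty := by
    obtain ⟨D, hD⟩ := hne
    exact ⟨_, D, hD, rfl⟩
  obtain ⟨A, hA⟩ := (Set.toFinite 𝒜).exists_minimal h𝒜
  obtain ⟨⟨T, E⟩, hE, rfl⟩ := hA.prop
  refine ⟨T, E, hE.1, hE.2, fun R D hD hDC => ?_⟩
  have hTS : T ≤ S := hE.1.1.2.2.2.1.1
  have hRS : R ≤ S := hD.1.2.2.2.1.1
  obtain ⟨M, hMF, hME, hMD⟩ := hW S ‹_› hS F hF T R E D hE.1 hD
  have hM : Good ⟨T ⊓ R, M⟩ := by
    refine ⟨hMF, fun U C hC => ?_⟩
    refine component_le_of_le hW hS hF hC hMF (le_inf ?_ ?_)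
    · exact le_of_isSubsystemOf (hE.2 U C hC)
    · exact le_of_isSubsystemOf (hDC U C hC)
  have h1 : graphs S M ⊆ graphs S E := graphs_mono hME.1.2.2.1
  have h2 : graphs S E ⊆ graphs S M := hA.le_of_le ⟨_, hM, rfl⟩ h1
  have h3 : E.IsSubsystemOf M :=
    isSubsystemOf_of_graphs hTS (inf_le_left.trans hTS) h2
  exact fun P φ hφ => hMD.1.2.2.1 P (h3 P hφ)

end Cfsg.Agent.H760
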