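import Cfsg.Agent.H754.MpSat
import Cfsg.Agent.H759.FusFactor
import Cfsg.Agent.H752.Ext
import Cfsg.Agent.H802.FusNorm
import Cfsg.Agent.H757.Coprime
import Cfsg.Agent.H757.Central
set_option linter.all false

-- part: H760/MpFactor
section
/-!
# Factor systems in terms of functions (helper760)

`tx θ : Ω → Ω'` is the homomorphism `θ : S →* Ω'` as a function on the ambient group. The maps of the factor system of
`F` modulo `R` read through `θ` in the language of `H752.Mp`.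
-/

set_option autoImplicit false

namespace Cfsg.Agent.H760

open Cfsg Cfsg.FusionSystem Cfsg.Agent.H752
open Cfsg.Agent.H759 (mem_preimageAlong mem_imageAlong)

variable {Ω : Type*} [Group Ω] {S T R : Subgroup Ω} {Ω' : Type*} [Group Ω'] {S' : Subgroup Ω'}

/-- A homomorphism on `S` as a function on the ambient group (value `1` outside `S`). -/
noncomputable def tx (θ : S →* Ω') : Ω → Ω' := by
  classical
  exact fun x => if hx : x ∈ S then θ ⟨x, hx⟩ else 1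

theorem tx_apply (θ : S →* Ω') {x : Ω} (hx : x ∈ S) : tx θ x = θ ⟨x, hx⟩ := by
  unfold tx
  exact dif_pos hx

theorem tx_coe (θ : S →* Ω') (x : S) : tx θ x = θ x := tx_apply θ x.2

variable {θ : S →* Ω'}

theorem tx_mul {x y : Ω} (hx : x ∈ S) (hy : y ∈ S) : tx θ (x * y) = tx θ x * tx θ y := by
  rw [tx_apply θ hx, tx_apply θ hy, tx_apply θ (mul_mem hx hy), ← map_mul]
  rfl

theorem tx_inv {x : Ω} (hx : x ∈ S) : tx θ x⁻¹ = (tx θ x)⁻¹ := by
  rw [tx_apply θ hx, tx_apply θ (inv_mem hx), ← map_inv]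
  rfl

theorem tx_one : tx θ 1 = 1 := by
  rw [tx_apply θ (one_mem S)]
  exact map_one θ

theorem tx_mem_range (x : Ω) : tx θ x ∈ θ.range := by
  by_cases hx : x ∈ S
  · rw [tx_apply θ hx]; exact ⟨_, rfl⟩
  · have : tx θ x = 1 := by unfold tx; exact dif_neg hx
    rw [this]; exact one_mem _

theorem mem_image_iff {P : Subgroup Ω} {y : Ω'} :
    y ∈ imageAlong θ P ↔ ∃ x ∈ P, x ∈ S ∧ tx θ x = y := by
  rw [mem_imageAlong]
  constructor
  · rintro ⟨x, hx, hxP, h⟩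
    exact ⟨x, hxP, hx, by rw [tx_apply θ hx, h]⟩
  · rintro ⟨x, hxP, hx, h⟩
    exact ⟨x, hx, hxP, by rw [← tx_apply θ hx, h]⟩

theorem mem_image_of_mem {P : Subgroup Ω} {x : Ω} (hx : x ∈ P) (hxS : x ∈ S) :
    tx θ x ∈ imageAlong θ P := mem_image_iff.2 ⟨x, hx, hxS, rfl⟩

theorem mem_pre_iff {P' : Subgroup Ω'} {x : Ω} :
    x ∈ preimageAlong θ P' ↔ x ∈ S ∧ tx θ x ∈ P' := by
  rw [mem_preimageAlong]
  constructor
  · rintro ⟨hx, h⟩
    exact ⟨hx, by rw [tx_apply θ hx]; exact h⟩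
  · rintro ⟨hx, h⟩
    exact ⟨hx, by rw [← tx_apply θ hx]; exact h⟩

/-- Restricting `θ` to a smaller group does not change the function on it. -/
theorem tx_restrict (hTS : T ≤ S) {x : Ω} (hx : x ∈ T) :
    tx (θ.comp (Subgroup.inclusion hTS)) x = tx θ x := by
  rw [tx_apply _ hx, tx_apply _ (hTS hx)]
  rfl

theorem image_restrict (hTS : T ≤ S) {P : Subgroup Ω} (hP : P ≤ T) :
    imageAlong (θ.comp (Subgroup.inclusion hTS)) P = imageAlong θ P := by
  ext y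
  rw [mem_image_iff, mem_image_iff]
  constructor
  · rintro ⟨x, hx, hxT, rfl⟩
    exact ⟨x, hx, hTS hxT, (tx_restrict hTS hxT).symm⟩
  · rintro ⟨x, hx, hxS, rfl⟩
    exact ⟨x, hx, hP hx, tx_restrict hTS (hP hx)⟩

theorem pre_restrict (hTS : T ≤ S) {P' : Subgroup Ω'} :
    preimageAlong (θ.comp (Subgroup.inclusion hTS)) P' = T ⊓ preimageAlong θ P' := by
  ext x
  rw [Subgroup.mem_inf, mem_pre_iff, mem_pre_iff]
  constructor
  · rintro ⟨hx, h⟩
    rw [tx_restrict hTS hx] at h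
    exact ⟨hx, hTS hx, h⟩
  · rintro ⟨hx, -, h⟩
    refine ⟨hx, ?_⟩
    rwa [tx_restrict hTS hx]

/-- The image as a join-preserving map. -/
theorem image_sup {A B : Subgroup Ω} (hA : A ≤ S) (hB : B ≤ S) :
    imageAlong θ (A ⊔ B) = imageAlong θ A ⊔ imageAlong θ B := by
  unfold imageAlong
  rw [← Subgroup.map_sup]
  congr 1
  exact Subgroup.subgroupOf_sup hA hB

theorem image_mono {A B : Subgroup Ω} (h : A ≤ B) : imageAlong θ A ≤ imageAlong θ B := by
  intro y hy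
  obtain ⟨x, hx, hxS, rfl⟩ := mem_image_iff.1 hy
  exact mem_image_of_mem (h hx) hxS

section kernel

variable (hker : ∀ s : S, θ s = 1 ↔ (s : Ω) ∈ R)
include hker

theorem tx_eq_one_iff {x : Ω} (hx : x ∈ S) : tx θ x = 1 ↔ x ∈ R := by
  rw [tx_apply θ hx]; exact hker ⟨x, hx⟩

theorem tx_eq_iff {x y : Ω} (hx : x ∈ S) (hy : y ∈ S) : tx θ x = tx θ y ↔ x⁻¹ * y ∈ R := by
  rw [← tx_eq_one_iff hker (mul_mem (inv_mem hx) hy), tx_mul (inv_mem hx) hy, tx_inv hx,
    inv_mul_eq_one]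

/-- The preimage of the image. -/
theorem pre_image_eq (hRS : R ≤ S) {P : Subgroup Ω} (hP : P ≤ S)
    (hn : P ≤ Subgroup.normalizer (R : Set Ω)) : preimageAlong θ (imageAlong θ P) = P ⊔ R := by
  ext x
  rw [mem_pre_iff, H759.mem_sup_of_normalizes hn]
  constructor
  · rintro ⟨hx, h⟩
    obtain ⟨y, hy, hyS, h1⟩ := mem_image_iff.1 h
    refine ⟨y, hy, y⁻¹ * x, (tx_eq_iff hker hyS hx).1 h1, by group⟩
  · rintro ⟨a, ha, b, hb, rfl⟩
    refine ⟨mul_mem (hP ha) (hRS hb), ?_⟩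
    rw [tx_mul (hP ha) (hRS hb), (tx_eq_one_iff hker (hRS hb)).2 hb, mul_one]
    exact mem_image_of_mem ha (hP ha)

end kernel

section factor

variable {F : FusionSystem S} {F' : FusionSystem S'}

/-- The maps of the factor system. -/
theorem mp_factor_iff (hR : F.StronglyClosed R) (hF' : F.IsFactorSystem R θ F') {P' : Subgroup Ω'}
    {f' : Ω' → Ω'} : Mp F' P' f' ↔ P' ≤ S' ∧ ∃ f, Mp F (preimageAlong θ P') f ∧
      ∀ x ∈ preimageAlong θ P', f' (tx θ x) = tx θ (f x) := by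
  constructor
  · rintro ⟨φ', hφ', h⟩
    obtain ⟨hP', φ, hφ, h1, h2, h3, h4⟩ := (hF'.2.2.2 P' φ').1 hφ'
    refine ⟨hP', ex φ, mp_ex hφ, fun x hx => ?_⟩
    rw [ex_apply _ hx, tx_apply θ (h2 ⟨x, hx⟩), tx_apply θ (h1 hx), ← h4 ⟨x, hx⟩, h _ (h3 ⟨x, hx⟩)]
  · rintro ⟨hP', f, ⟨φ, hφ, h⟩, h1⟩
    obtain ⟨φ', hφ'⟩ := H759.exists_induced_of_mem hR hF'.2.1 hF'.2.2.1 hP' hφ
    refine ⟨φ', (hF'.2.2.2 P' φ').2 ⟨hP', φ, hφ, hφ'⟩, fun y hy => ?_⟩
    obtain ⟨x, hx, hxP, hxy⟩ := H759.exists_preimage_of_mem hF' hP' hy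
    obtain ⟨h2, h3, h4, h5⟩ := hφ'
    have h6 := h5 ⟨x, hxP⟩
    have h7 : (⟨θ ⟨x, h2 hxP⟩, h4 ⟨x, hxP⟩⟩ : P') = ⟨y, hy⟩ := Subtype.ext hxy
    rw [h7] at h6
    rw [h6, ← hxy, ← tx_apply θ hx, h1 x hxP, ← h x hxP, tx_apply θ (h3 ⟨x, hxP⟩)]

/-- Every map of `F` induces a map of the factor system. -/
theorem exists_mp_factor [Finite S] {p : ℕ} [Fact p.Prime] (hS : IsPGroup p S)
    (hF : F.IsSaturated p) (hR : F.StronglyClosed R) (hF' : F.IsFactorSystem R θ F')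
    {P : Subgroup Ω} {f : Ω → Ω} (hf : Mp F P f) :
    ∃ f', Mp F' (imageAlong θ P) f' ∧ ∀ x ∈ P, f' (tx θ x) = tx θ (f x) := by
  have hPS : P ≤ S := hf.le
  have hRS : R ≤ S := hR.1
  have hker := hF'.2.1
  obtain ⟨φ, hφ, h⟩ := hf
  obtain ⟨ψ, hψ, h1⟩ := H759.exists_lift hS hF hR P φ hφ
  have hpre : preimageAlong θ (imageAlong θ P) = P ⊔ R :=
    pre_image_eq hker hRS hPS (hPS.trans (H759.StronglyClosed.le_normalizer hR))
  have him : imageAlong θ P ≤ S' := by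
    rw [← hF'.2.2.1]
    rintro y hy
    obtain ⟨x, hx, hxS, rfl⟩ := mem_image_iff.1 hy
    exact tx_mem_range x
  obtain ⟨φ', hφ', h2⟩ := H759.exists_factor_map hR hF' hψ (P' := imageAlong θ P) him hpre.le
  refine ⟨ex φ', mp_ex hφ', fun x hx => ?_⟩
  have hx' : x ∈ P ⊔ R := (le_sup_left : P ≤ P ⊔ R) hx
  have hxS : x ∈ S := hPS hx
  have h3 : θ ⟨x, hxS⟩ ∈ imageAlong θ P := by
    rw [← tx_apply θ hxS]; exact mem_image_of_mem hx hxS
  have hy : ψ ⟨x, hx'⟩ ∈ S := (F.le_of_mem hψ).2 _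
  have h4 := h2 x hx' hxS h3 hy
  rw [tx_apply θ hxS, ex_apply _ h3, h4, ← tx_apply θ hy, ← h x hx]
  have h5 : φ ⟨x, hx⟩ ∈ S := (F.le_of_mem hφ).2 _
  exact ((tx_eq_iff hker h5 hy).2 (h1 ⟨x, hx⟩ hx')).symm

/-- The image is in `S'`. -/
theorem image_le (hF' : F.IsFactorSystem R θ F') (P : Subgroup Ω) : imageAlong θ P ≤ S' := by
  rw [← hF'.2.2.1]
  rintro y hy
  obtain ⟨x, hx, hxS, rfl⟩ := mem_image_iff.1 hy
  exact tx_mem_range x

/-- Elements of `S'` are images. -/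
theorem exists_tx (hF' : F.IsFactorSystem R θ F') {y : Ω'} (hy : y ∈ S') :
    ∃ x ∈ S, tx θ x = y := by
  rw [← hF'.2.2.1] at hy
  obtain ⟨x, rfl⟩ := hy
  exact ⟨x, x.2, tx_coe θ x⟩

theorem image_pre (hF' : F.IsFactorSystem R θ F') {P' : Subgroup Ω'} (hP' : P' ≤ S') :
    imageAlong θ (preimageAlong θ P') = P' := by
  ext y
  rw [mem_image_iff]
  constructor
  · rintro ⟨x, hx, -, rfl⟩
    exact (mem_pre_iff.1 hx).2
  · intro hy
    obtain ⟨x, hx, rfl⟩ := exists_tx hF' (hP' hy)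
    exact ⟨x, mem_pre_iff.2 ⟨hx, hy⟩, hx, rfl⟩

/-- A map of the factor system is determined by its values on images. -/
theorem factor_ext (hF' : F.IsFactorSystem R θ F') {P' : Subgroup Ω'} (hP' : P' ≤ S')
    {f' g' : Ω' → Ω'} (h : ∀ x ∈ preimageAlong θ P', f' (tx θ x) = g' (tx θ x)) :
    ∀ y ∈ P', f' y = g' y := by
  intro y hy
  obtain ⟨x, hx, rfl⟩ := exists_tx hF' (hP' hy)
  exact h x (mem_pre_iff.2 ⟨hx, hy⟩)

/-- Existence of the factor system (any strongly closed subgroup). -/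
theorem exists_factor [Finite S] (hR : F.StronglyClosed R)
    (hker : ∀ s : S, θ s = 1 ↔ (s : Ω) ∈ R) :
    ∃ E : FusionSystem θ.range, F.IsFactorSystem R θ E :=
  H759.exists_factorSystem hR hker rfl

end factor

end Cfsg.Agent.H760
end

-- part: H760/QuotExt
section
/-!
# The extension of an automorphism of a normal subsystem modulo a strongly closed subgroup (helper760)

`E` normal in `F` over `T`, `R` strongly closed in `F`, `X = {x ∈ S : [x, T] ≤ R}`: every automorphism `a` of `T` in `E`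
agrees modulo `R` with a map `g` of `F` on `T C_S(T) X` which leaves `X` invariant and acts trivially on
`X T C_S(T) / T C_S(T)` and on `T C_S(T) / T`.
-/

set_option autoImplicit false

namespace Cfsg.Agent.H760

open Cfsg Cfsg.FusionSystem Cfsg.Agent.H752

variable {Ω : Type*} [Group Ω] {S T R : Subgroup Ω} {F : FusionSystem S} {E : FusionSystem T}

/-- A subgroup normalized by `S` is fully normalized. -/
theorem isFullyNormalized_of_normal [Finite S] {Y : Subgroup Ω} (hY : Y ≤ S)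
    (hn : S ≤ Subgroup.normalizer (Y : Set Ω)) : F.IsFullyNormalized Y := by
  refine ⟨hY, fun Q _ => ?_⟩
  have h1 : normalizerIn S Y = S := inf_eq_left.2 hn
  rw [h1]
  exact Subgroup.card_le_of_le inf_le_left

theorem mem_centralizerIn {x : Ω} : x ∈ centralizerIn S T ↔ x ∈ S ∧ ∀ t ∈ T, t * x = x * t := by
  constructor
  · intro h
    exact ⟨h.1, fun t ht => Subgroup.mem_centralizer_iff.1 h.2 t ht⟩
  · rintro ⟨h1, h2⟩
    exact ⟨h1, Subgroup.mem_centralizer_iff.2 h2⟩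

theorem isPGroup_zpowers {G : Type*} [Group G] {p : ℕ} {g : G} {k : ℕ} (h : g ^ p ^ k = 1) :
    IsPGroup p (Subgroup.zpowers g) := by
  rintro ⟨_, n, rfl⟩
  refine ⟨k, Subtype.ext ?_⟩
  show (g ^ n) ^ p ^ k = 1
  rw [← zpow_natCast, ← zpow_mul, mul_comm, zpow_mul, zpow_natCast, h, one_zpow]

/-- `T C_S(T)` is normalized by `S` for `T` strongly closed. -/
theorem le_normalizer_sup_centralizerIn (hT : F.StronglyClosed T) :
    S ≤ Subgroup.normalizer ((T ⊔ centralizerIn S T : Subgroup Ω) : Set Ω) := by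
  rw [Subgroup.le_normalizer_iff]
  intro s hs t ht
  have h1 : Mp F (T ⊔ centralizerIn S T) (fun x => s * x * s⁻¹) :=
    mp_conj F (sup_le hT.1 inf_le_left) hs
  refine H754.mp_sup_mem h1 (fun x hx => ?_) (fun x hx => ?_) t ht
  · exact (le_sup_left : T ≤ _) (H759.StronglyClosed.conj_mem hT hs hx)
  · obtain ⟨hxS, hxT⟩ := mem_centralizerIn.1 hx
    refine (le_sup_right : centralizerIn S T ≤ _)
      (mem_centralizerIn.2 ⟨mul_mem (mul_mem hs hxS) (Subgroup.inv_mem _ hs), fun t ht => ?_⟩)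
    have h2 := hxT _ (H759.StronglyClosed.conj_mem' hT hs ht)
    calc t * (s * x * s⁻¹) = s * ((s⁻¹ * t * s) * x) * s⁻¹ := by group
      _ = s * (x * (s⁻¹ * t * s)) * s⁻¹ := by rw [h2]
      _ = s * x * s⁻¹ * t := by group

/-- An element of `S` inducing an automorphism of `T` in `E` lies in `T C_S(T)`. -/
theorem mem_sup_of_mp [Finite S] {p : ℕ} [Fact p.Prime] (hS : IsPGroup p S) (hE : E.IsSaturated p)
    (hTS : T ≤ S) {u : Ω} (hu : u ∈ S) (h : Mp E T (fun x => u * x * u⁻¹)) :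
    u ∈ T ⊔ centralizerIn S T := by
  have hfT : Finite T := H802.finite_of_le hTS
  have hfM : Finite (MulAut T) := inferInstance
  have hfA : Finite (E.autGroup T) := inferInstance
  obtain ⟨α, hα, h1⟩ := h.exists_aut fun x hx => h.mem hx
  obtain ⟨⟨-, P, hP⟩, -⟩ := automized_receptive_of_stronglyClosed hE
    (H759.StronglyClosed.top : E.StronglyClosed T)
  have hPn : (P : Subgroup (E.autGroup T)).Normal := by
    refine ⟨fun n hn g => ?_⟩
    rw [hP, Subgroup.mem_subgroupOf] at hn ⊢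
    obtain ⟨t, ht, h2⟩ := H759.mem_autInducedBy.1 hn
    rw [H759.mem_autInducedBy]
    refine ⟨((g : MulAut T) ⟨t, ht⟩ : T), ((g : MulAut T) ⟨t, ht⟩).2, fun x => ?_⟩
    have h3 : (n : MulAut T) ((g : MulAut T)⁻¹ x) = ⟨t, ht⟩ * ((g : MulAut T)⁻¹ x) * ⟨t, ht⟩⁻¹ :=
      Subtype.ext (h2 _)
    show (((g : MulAut T) ((n : MulAut T) ((g : MulAut T)⁻¹ x)) : T) : Ω) = _
    rw [h3, map_mul, map_mul, map_inv, MulAut.apply_inv_self]
    rfl
  have hα' : (⟨α, hα⟩ : E.autGroup T) ∈ (P : Subgroup (E.autGroup T)) := by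
    -- `α` has `p`-power order
    obtain ⟨k, hk⟩ := hS ⟨u, hu⟩
    have hk' : u ^ p ^ k = 1 := congrArg Subtype.val hk
    have h2 : ∀ (n : ℕ) (x : T), (((α ^ n) x : T) : Ω) = u ^ n * x * (u ^ n)⁻¹ := by
      intro n
      induction n with
      | zero => intro x; simp
      | succ n ih =>
        intro x
        rw [pow_succ', MulAut.mul_apply, ← h1 _ ((α ^ n) x).2, ih, pow_succ']
        group
    have h3 : α ^ p ^ k = 1 := by
      apply MulEquiv.ext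
      intro x
      apply Subtype.ext
      rw [h2, hk']
      simp
    have h4 : IsPGroup p (Subgroup.zpowers (⟨α, hα⟩ : E.autGroup T)) :=
      isPGroup_zpowers (k := k) (Subtype.ext h3)
    obtain ⟨Q, hQ⟩ := h4.exists_le_sylow
    obtain ⟨g, hg⟩ := MulAction.exists_smul_eq (E.autGroup T) P Q
    rw [Sylow.smul_eq_of_normal] at hg
    rw [hg]
    exact hQ (Subgroup.mem_zpowers _)
  rw [hP, Subgroup.mem_subgroupOf] at hα'
  obtain ⟨t, ht, h2⟩ := H759.mem_autInducedBy.1 hα'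
  have h3 : t⁻¹ * u ∈ centralizerIn S T := by
    refine mem_centralizerIn.2 ⟨mul_mem (Subgroup.inv_mem _ (hTS ht)) hu, fun x hx => ?_⟩
    have h4 := h2 ⟨x, hx⟩
    have h5 := h1 x hx
    simp only at h4 h5
    rw [← h5] at h4
    show x * (t⁻¹ * u) = t⁻¹ * u * x
    have h6 : u * x = t * x * t⁻¹ * u := by rw [← h4]; group
    calc x * (t⁻¹ * u) = t⁻¹ * (t * x * t⁻¹ * u) := by group
      _ = t⁻¹ * u * x := by rw [← h6]; group
  have h4 : u = t * (t⁻¹ * u) := by group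
  rw [h4]
  exact Subgroup.mul_mem_sup ht h3

/-- An automorphism of `Y` as a function. -/
noncomputable def ea {Y : Subgroup Ω} (κ : MulAut Y) : Ω → Ω := ex fun y => ((κ y : Y) : Ω)

theorem ea_apply {Y : Subgroup Ω} (κ : MulAut Y) {y : Ω} (hy : y ∈ Y) :
    ea κ y = (κ ⟨y, hy⟩ : Y) := ex_apply _ hy

theorem ea_mem {Y : Subgroup Ω} (κ : MulAut Y) {y : Ω} (hy : y ∈ Y) : ea κ y ∈ Y := by
  rw [ea_apply κ hy]; exact (κ ⟨y, hy⟩).2

theorem ea_mul {Y : Subgroup Ω} (κ μ : MulAut Y) {y : Ω} (hy : y ∈ Y) :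
    ea (κ * μ) y = ea κ (ea μ y) := by
  rw [ea_apply _ hy, ea_apply _ (ea_mem μ hy)]
  have h1 : (⟨ea μ y, ea_mem μ hy⟩ : Y) = μ ⟨y, hy⟩ := Subtype.ext (ea_apply μ hy)
  rw [h1, MulAut.mul_apply]

theorem ea_one {Y : Subgroup Ω} {y : Ω} (hy : y ∈ Y) : ea (1 : MulAut Y) y = y := by
  rw [ea_apply _ hy]; rfl

theorem ea_inv_ea {Y : Subgroup Ω} (κ : MulAut Y) {y : Ω} (hy : y ∈ Y) : ea κ⁻¹ (ea κ y) = y := by
  rw [← ea_mul _ _ hy, inv_mul_cancel, ea_one hy]

theorem ea_ea_inv {Y : Subgroup Ω} (κ : MulAut Y) {y : Ω} (hy : y ∈ Y) : ea κ (ea κ⁻¹ y) = y := by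
  rw [← ea_mul _ _ hy, mul_inv_cancel, ea_one hy]

theorem mp_ea {Y : Subgroup Ω} (hY : Y ≤ S) {κ : MulAut Y} (hκ : κ ∈ F.autGroup Y) : Mp F Y (ea κ) :=
  (mp_iff_autGroup hY κ).1 hκ

section subgroups

variable {Y A B : Subgroup Ω}

/-- The automorphisms in `F` of `Y` which are trivial on `A ∩ Y` modulo `B`, for `B ≤ A` strongly closed. -/
def tri (F : FusionSystem S) (hY : Y ≤ S) (hA : F.StronglyClosed A) (_hBA : B ≤ A) :
    Subgroup (MulAut Y) where
  carrier := {κ | κ ∈ F.autGroup Y ∧ ∀ y ∈ Y, y ∈ A → y⁻¹ * ea κ y ∈ B}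
  one_mem' := ⟨one_mem _, fun y hy _ => by rw [ea_one hy, inv_mul_cancel]; exact one_mem _⟩
  mul_mem' := by
    rintro κ μ ⟨h1, h2⟩ ⟨h3, h4⟩
    refine ⟨mul_mem h1 h3, fun y hy hyA => ?_⟩
    have h5 : ea μ y ∈ A := mp_mem_of_stronglyClosed hA (mp_ea hY h3) hy hyA
    rw [ea_mul _ _ hy]
    have h6 : y⁻¹ * ea κ (ea μ y) = (y⁻¹ * ea μ y) * ((ea μ y)⁻¹ * ea κ (ea μ y)) := by group
    rw [h6]
    exact mul_mem (h4 y hy hyA) (h2 _ (ea_mem μ hy) h5)
  inv_mem' := by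
    rintro κ ⟨h1, h2⟩
    refine ⟨Subgroup.inv_mem _ h1, fun y hy hyA => ?_⟩
    have h5 : ea κ⁻¹ y ∈ A :=
      mp_mem_of_stronglyClosed hA (mp_ea hY (Subgroup.inv_mem _ h1)) hy hyA
    have h6 := h2 _ (ea_mem κ⁻¹ hy) h5
    rw [ea_ea_inv κ hy] at h6
    have h7 := Subgroup.inv_mem _ h6
    rwa [mul_inv_rev, inv_inv] at h7

theorem mem_tri {hY : Y ≤ S} {hA : F.StronglyClosed A} {hBA : B ≤ A} {κ : MulAut Y} :
    κ ∈ tri F hY hA hBA ↔ κ ∈ F.autGroup Y ∧ ∀ y ∈ Y, y ∈ A → y⁻¹ * ea κ y ∈ B := Iff.rfl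

theorem tri_conj (hY : Y ≤ S) (hA : F.StronglyClosed A) (hBA : B ≤ A)
    (hB : F.StronglyClosed B) {a κ : MulAut Y} (ha : a ∈ F.autGroup Y) (hκ : κ ∈ tri F hY hA hBA) :
    a * κ * a⁻¹ ∈ tri F hY hA hBA := by
  obtain ⟨h1, h2⟩ := mem_tri.1 hκ
  refine mem_tri.2 ⟨mul_mem (mul_mem ha h1) (Subgroup.inv_mem _ ha), fun y hy hyA => ?_⟩
  have h5 : ea a⁻¹ y ∈ A := mp_mem_of_stronglyClosed hA (mp_ea hY (Subgroup.inv_mem _ ha)) hy hyA
  have h6 := h2 _ (ea_mem a⁻¹ hy) h5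
  have hm := mp_ea hY ha
  have hy1 : ea a⁻¹ y ∈ Y := ea_mem a⁻¹ hy
  have h7 : (ea a⁻¹ y)⁻¹ * ea κ (ea a⁻¹ y) ∈ Y :=
    mul_mem (Subgroup.inv_mem _ hy1) (ea_mem κ hy1)
  have h8 := mp_mem_of_stronglyClosed hB hm h7 h6
  rw [hm.mul (Subgroup.inv_mem _ hy1) (ea_mem κ hy1), hm.inv hy1, ea_ea_inv a hy] at h8
  rw [ea_mul _ _ hy, ea_mul _ _ hy1]
  exact h8

/-- The automorphisms in `F` of `Y ≥ T` inducing on `T` an automorphism in `E`. -/
def eaut (E : FusionSystem T) (F : FusionSystem S) (hY : Y ≤ S) (hTY : T ≤ Y)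
    (hT : F.StronglyClosed T) : Subgroup (MulAut Y) where
  carrier := {κ | κ ∈ F.autGroup Y ∧ Mp E T (ea κ)}
  one_mem' := ⟨one_mem _, (mp_id E le_rfl).congr fun y hy => ea_one (hTY hy)⟩
  mul_mem' := by
    rintro κ μ ⟨h1, h2⟩ ⟨h3, h4⟩
    exact ⟨mul_mem h1 h3, (h4.comp h2 fun x hx => h4.mem hx).congr
      fun y hy => ea_mul _ _ (hTY hy)⟩
  inv_mem' := by
    rintro κ ⟨h1, h2⟩
    refine ⟨Subgroup.inv_mem _ h1, h2.symm fun y hy => ⟨ea κ⁻¹ y, ?_, ea_ea_inv κ (hTY hy), rfl⟩⟩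
    exact mp_mem_of_stronglyClosed hT (mp_ea hY (Subgroup.inv_mem _ h1)) (hTY hy) hy

theorem mem_eaut {hY : Y ≤ S} {hTY : T ≤ Y} {hT : F.StronglyClosed T} {κ : MulAut Y} :
    κ ∈ eaut E F hY hTY hT ↔ κ ∈ F.autGroup Y ∧ Mp E T (ea κ) := Iff.rfl

theorem eaut_conj (hI : InvC E F) (hY : Y ≤ S) (hTY : T ≤ Y) (hT : F.StronglyClosed T)
    {a κ : MulAut Y} (ha : a ∈ F.autGroup Y) (hκ : κ ∈ eaut E F hY hTY hT) :
    a * κ * a⁻¹ ∈ eaut E F hY hTY hT := by
  obtain ⟨h1, h2⟩ := mem_eaut.1 hκ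
  refine mem_eaut.2 ⟨mul_mem (mul_mem ha h1) (Subgroup.inv_mem _ ha), ?_⟩
  refine hI T T (ea κ) (ea a) _ h2 ((mp_ea hY ha).res hTY) fun y hy => ⟨ea a⁻¹ y, ?_,
    ea_ea_inv a (hTY hy), ?_⟩
  · exact mp_mem_of_stronglyClosed hT (mp_ea hY (Subgroup.inv_mem _ ha)) (hTY hy) hy
  · rw [ea_mul _ _ (hTY hy), ea_mul _ _ (ea_mem _ (hTY hy))]

end subgroups

/-- **Extension modulo `R`.** -/
theorem exists_ext_mod [Finite S] {p : ℕ} [Fact p.Prime] (hS : IsPGroup p S)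
    (hE : E.IsNormalIn F p) (hR : F.StronglyClosed R) {X : Subgroup Ω}
    (hX : ∀ x, x ∈ X ↔ x ∈ S ∧ ∀ t ∈ T, x * t * x⁻¹ * t⁻¹ ∈ R) {a : Ω → Ω} (ha : Mp E T a) :
    ∃ g, Mp F ((T ⊔ centralizerIn S T) ⊔ X) g ∧ (∀ t ∈ T, (a t)⁻¹ * g t ∈ R) ∧
      (∀ x ∈ X, g x ∈ X) ∧ (∀ x ∈ X, x⁻¹ * g x ∈ T ⊔ centralizerIn S T) ∧
      ∀ y ∈ T ⊔ centralizerIn S T, y⁻¹ * g y ∈ T := by
  obtain ⟨⟨hEs, hFs, hEi⟩, -⟩ := id hE
  have hT : F.StronglyClosed T := hEi.2.1
  have hTS : T ≤ S := hT.1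
  have hfT : Finite T := H802.finite_of_le hTS
  obtain ⟨-, -, hI, -⟩ := isInvariantIn_iff.1 hEi
  have hXS : X ≤ S := fun x hx => ((hX x).1 hx).1
  obtain ⟨b, hb, hba, hbc⟩ := H754.exists_ext_of_isNormalIn hE ha
  set Y : Subgroup Ω := T ⊔ centralizerIn S T with hYdef
  have hYS : Y ≤ S := hb.le
  have hTY : T ≤ Y := le_sup_left
  have hCY : centralizerIn S T ≤ Y := le_sup_right
  have hSY : S ≤ Subgroup.normalizer (Y : Set Ω) := le_normalizer_sup_centralizerIn hT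
  have hfY : Finite Y := H802.finite_of_le hYS
  have hYn : F.IsFullyNormalized Y := isFullyNormalized_of_normal hYS hSY
  have hYa := H802.isFullyAutomized_of_isFullyNormalized hS hFs hYn
  have hYr := H802.isReceptive_of_isFullyNormalized hS hFs hYn
  -- `b` maps `Y` to `Y` and is trivial modulo `T`
  have hTb : ∀ x ∈ T, b x ∈ T := fun x hx => by rw [hba x hx]; exact ha.mem hx
  have hbY : ∀ x ∈ Y, b x ∈ Y := by
    refine H754.mp_sup_mem hb (fun x hx => hTY (hTb x hx)) (fun c hc => ?_)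
    have h1 : b c = c * (c⁻¹ * b c) := by group
    rw [h1]
    exact mul_mem (hCY hc) (hTY (hbc c hc).1)
  have hbT : ∀ y ∈ Y, y⁻¹ * b y ∈ T := by
    intro y hy
    have hTn : centralizerIn S T ≤ Subgroup.normalizer (T : Set Ω) :=
      (inf_le_left : centralizerIn S T ≤ S).trans (H759.StronglyClosed.le_normalizer hT)
    rw [hYdef, sup_comm, H759.mem_sup_of_normalizes hTn] at hy
    obtain ⟨c, hc, t, ht, rfl⟩ := hy
    rw [hb.mul (hCY hc) (hTY ht)]
    have h1 : (c * t)⁻¹ * (b c * b t) = t⁻¹ * (c⁻¹ * b c) * b t := by group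
    rw [h1]
    exact mul_mem (mul_mem (Subgroup.inv_mem _ ht) (hbc c hc).1) (hTb t ht)
  obtain ⟨β, hβ, hβb⟩ := hb.exists_aut hbY
  have hβb' : ∀ y ∈ Y, ea β y = b y := fun y hy => by rw [ea_apply β hy, hβb y hy]
  -- the subgroups of `Aut_F(Y)`
  let K₀ : Subgroup (MulAut Y) := tri F hYS (H759.StronglyClosed.top (F := F)) hTS ⊓ eaut E F hYS hTY hT
  let K : Subgroup (MulAut Y) := K₀ ⊓ tri F hYS hT (inf_le_left : T ⊓ R ≤ T)
  have hTR : F.StronglyClosed (T ⊓ R) := H759.StronglyClosed.inf hT hR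
  have hK₀c : ∀ a ∈ F.autGroup Y, ∀ κ ∈ K₀, a * κ * a⁻¹ ∈ K₀ := fun a ha κ hκ =>
    ⟨tri_conj hYS _ hTS hT ha hκ.1, eaut_conj hI hYS hTY hT ha hκ.2⟩
  have hKc : ∀ a ∈ F.autGroup Y, ∀ κ ∈ K, a * κ * a⁻¹ ∈ K := fun a ha κ hκ =>
    ⟨hK₀c a ha κ hκ.1, tri_conj hYS hT inf_le_left hTR ha hκ.2⟩
  have hβ₀ : β ∈ K₀ := by
    refine ⟨mem_tri.2 ⟨hβ, fun y hy _ => ?_⟩, mem_eaut.2 ⟨hβ, ?_⟩⟩
    · rw [hβb' y hy]; exact hbT y hy
    · exact ha.congr fun x hx => by rw [hβb' x (hTY hx), hba x hx]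
  obtain ⟨χ, hχ, hχb⟩ := hb
  have hχr : χ.range = Y := H802.range_eq_of_mapsTo hχ fun x => by rw [hχb x x.2]; exact hbY x x.2
  obtain ⟨k, hk, ψ, hψ, hψk⟩ := H759.exists_extension F hS hYa hYr hχ hχr K
    (fun κ hκ => (mem_tri.1 hκ.2).1) hKc X hXS (hXS.trans hSY) (by
      intro g hg
      have hgS : g ∈ S := hXS hg
      have hgn : g ∈ Subgroup.normalizer (Y : Set Ω) := hSY hgS
      have hgT : ∀ t ∈ T, g * t * g⁻¹ ∈ T := fun t ht => H759.StronglyClosed.conj_mem hT hgS ht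
      -- conjugation by `g`
      set c : MulAut Y := H759.conjAut Y g hgn with hc
      have hce : ∀ y ∈ Y, ea c y = g * y * g⁻¹ := fun y hy => by
        rw [ea_apply c hy]; rfl
      have hcF : c ∈ F.autGroup Y := H759.autGroup_map F (H759.conj_mem' F hYS hgS fun x => rfl)
      have hcR : c ∈ tri F hYS hT (inf_le_left : T ⊓ R ≤ T) := by
        refine mem_tri.2 ⟨hcF, fun y hy hyT => ?_⟩
        rw [hce y hy]
        refine ⟨mul_mem (Subgroup.inv_mem _ hyT) (hgT y hyT), ?_⟩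
        have h1 := ((hX g).1 hg).2 y hyT
        have h2 := H759.StronglyClosed.conj_mem' hR (hTS hyT) h1
        have h3 : y⁻¹ * (g * y * g⁻¹ * y⁻¹) * y = y⁻¹ * (g * y * g⁻¹) := by group
        rwa [h3] at h2
      refine ⟨β * c * β⁻¹ * c⁻¹, ⟨?_, ?_⟩, g, hgS, hgn, fun x hx hy => ?_⟩
      · have h1 : β * c * β⁻¹ * c⁻¹ = β * (c * β⁻¹ * c⁻¹) := by group
        rw [h1]
        exact mul_mem hβ₀ (hK₀c c hcF _ (Subgroup.inv_mem _ hβ₀))
      · exact mul_mem (tri_conj hYS hT inf_le_left hTR hβ hcR) (Subgroup.inv_mem _ hcR)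
      · have h1 : ∀ z : Y, χ z = ((β z : Y) : Ω) := fun z => by
          rw [hχb z z.2, hβb z z.2]
        rw [h1]
        congr 1
        have h2 : (⟨g * χ x * g⁻¹, hy⟩ : Y) = c (β x) := Subtype.ext (by
          show g * χ x * g⁻¹ = _
          rw [hc, H759.coe_conjAut, h1])
        have h3 : (⟨g * (x : Ω) * g⁻¹, hx⟩ : Y) = c x := Subtype.ext (by
          rw [hc, H759.coe_conjAut])
        rw [h2, h3]
        simp only [MulAut.mul_apply, MulAut.inv_apply_self])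
  obtain ⟨⟨hk1, hk2⟩, hk3⟩ := hk
  obtain ⟨hkF, hk1⟩ := mem_tri.1 hk1
  obtain ⟨-, hk2⟩ := mem_eaut.1 hk2
  obtain ⟨-, hk3⟩ := mem_tri.1 hk3
  have hg : Mp F (Y ⊔ X) (ex ψ) := mp_ex hψ
  have hYX : Y ≤ Y ⊔ X := le_sup_left
  have hXX : X ≤ Y ⊔ X := le_sup_right
  have hgY : ∀ y ∈ Y, ex ψ y = ea k (b y) := by
    intro y hy
    rw [ex_apply _ (hYX hy), hψk ⟨y, hy⟩ (by rw [hχb y hy]; exact hbY y hy) (hYX hy),
      ea_apply k (hbY y hy)]
    congr 2
    exact Subtype.ext (hχb y hy)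
  set g : Ω → Ω := ex ψ with hgdef
  have hgTE : Mp E T g := by
    refine (ha.comp hk2 fun x hx => ha.mem hx).congr fun x hx => ?_
    rw [hgY x (hTY hx), hba x hx]
  have hgT : ∀ t ∈ T, g t ∈ T := fun t ht => hgTE.mem ht
  have hgX : ∀ x ∈ X, g x ∈ X := by
    intro x hx
    refine (hX _).2 ⟨hg.mem (hXX hx), fun t ht => ?_⟩
    obtain ⟨t₀, ht₀, rfl⟩ := hgTE.surj hgT ht
    have h1 := ((hX x).1 hx).2 t₀ ht₀
    have hxm := hXX hx
    have htm := hYX (hTY ht₀)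
    have h2 : g (x * t₀ * x⁻¹ * t₀⁻¹) = g x * g t₀ * (g x)⁻¹ * (g t₀)⁻¹ := by
      rw [hg.mul (mul_mem (mul_mem hxm htm) (Subgroup.inv_mem _ hxm)) (Subgroup.inv_mem _ htm),
        hg.mul (mul_mem hxm htm) (Subgroup.inv_mem _ hxm), hg.mul hxm htm, hg.inv hxm, hg.inv htm]
    rw [← h2]
    exact mp_mem_of_stronglyClosed hR hg
      (mul_mem (mul_mem (mul_mem hxm htm) (Subgroup.inv_mem _ hxm)) (Subgroup.inv_mem _ htm)) h1
  refine ⟨g, hg, fun t ht => ?_, hgX, fun x hx => ?_, fun y hy => ?_⟩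
  · rw [hgY t (hTY ht), hba t ht]
    exact (hk3 _ (hTY (ha.mem ht)) (ha.mem ht)).2
  · -- `u = x⁻¹ g(x)` induces on `T` an automorphism in `E`
    have hxS : x ∈ S := hXS hx
    have hxm := hXX hx
    refine mem_sup_of_mp hS hEs hTS (mul_mem (Subgroup.inv_mem _ hxS) (hg.mem hxm)) ?_
    obtain ⟨g', hg', h1, h2⟩ := hgTE.exists_symm le_rfl (T := T) fun y =>
      ⟨fun hy => hgTE.surj hgT hy, fun ⟨z, hz, h⟩ => h ▸ hgT z hz⟩
    have h3 : Mp E T (fun t => x⁻¹ * g (x * t * x⁻¹) * x) := by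
      refine hI T T g (fun t => x⁻¹ * t * x⁻¹⁻¹) _ hgTE (mp_conj F hTS (Subgroup.inv_mem _ hxS))
        fun y hy => ⟨x * y * x⁻¹, H759.StronglyClosed.conj_mem hT hxS hy, by group, by group⟩
    refine (hg'.comp h3 fun y hy => (h2 y hy).1).congr fun t ht => ?_
    obtain ⟨h4, h5⟩ := h2 t ht
    have htm := hYX (hTY h4)
    rw [hg.mul (mul_mem hxm htm) (Subgroup.inv_mem _ hxm), hg.mul hxm htm, hg.inv hxm, h5]
    group
  · rw [hgY y hy]
    have h1 : y⁻¹ * ea k (b y) = (y⁻¹ * b y) * ((b y)⁻¹ * ea k (b y)) := by group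
    rw [h1]
    exact mul_mem (hbT y hy) (hk1 _ (hbY y hy) (hYS (hbY y hy)))

end Cfsg.Agent.H760
end

-- part: H760/QuotNormal
section
/-!
# Images of normal subsystems in factor systems (helper760)

`F` saturated over the finite `p`-group `S`, `E` normal in `F` over `T`, `R` strongly closed in `F`: the image of `E` in
the factor system `F/R` (over `TR/R`) is a normal subsystem of `F/R`.
-/

set_option autoImplicit false

namespace Cfsg.Agent.H760

open Cfsg Cfsg.FusionSystem Cfsg.Agent.H752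

variable {Ω : Type*} [Group Ω] {S T R : Subgroup Ω} {Ω' : Type*} [Group Ω'] {S' T' : Subgroup Ω'}
variable {F : FusionSystem S} {E : FusionSystem T} {θ : S →* Ω'} {F' : FusionSystem S'}
variable {E' : FusionSystem T'}

theorem stronglyClosed_inf_sub (hE : E.IsSubsystemOf F) (hR : F.StronglyClosed R) :
    E.StronglyClosed (T ⊓ R) := by
  refine ⟨inf_le_left, fun P hP φ hφ x => ⟨(E.le_of_mem hφ).2 x, ?_⟩⟩
  exact hR.2 P (hP.trans inf_le_right) φ (hE P hφ) x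

theorem range_restrict (hTS : T ≤ S) :
    (θ.comp (Subgroup.inclusion hTS)).range = imageAlong θ T := by
  ext y
  rw [mem_image_iff]
  constructor
  · rintro ⟨x, rfl⟩
    exact ⟨x, x.2, hTS x.2, by rw [tx_apply θ (hTS x.2)]; rfl⟩
  · rintro ⟨x, hx, hxS, rfl⟩
    exact ⟨⟨x, hx⟩, by rw [tx_apply θ hxS]; rfl⟩

theorem eq_image_of_factor {hTS : T ≤ S}
    (hE' : E.IsFactorSystem (T ⊓ R) (θ.comp (Subgroup.inclusion hTS)) E') : T' = imageAlong θ T := by
  rw [← hE'.2.2.1, range_restrict]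

/-- Maps of `E'` come from maps of `E`. -/
theorem exists_mp_of_sub {hTS : T ≤ S} (hE : E.IsSubsystemOf F) (hR : F.StronglyClosed R)
    (hE' : E.IsFactorSystem (T ⊓ R) (θ.comp (Subgroup.inclusion hTS)) E') {P' : Subgroup Ω'}
    {f' : Ω' → Ω'} (hf : Mp E' P' f') : P' ≤ T' ∧ ∃ f, Mp E (T ⊓ preimageAlong θ P') f ∧
      ∀ x ∈ T ⊓ preimageAlong θ P', f' (tx θ x) = tx θ (f x) := by
  obtain ⟨hP', f, hf, h⟩ := (mp_factor_iff (stronglyClosed_inf_sub hE hR) hE').1 hf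
  rw [pre_restrict] at hf h
  refine ⟨hP', f, hf, fun x hx => ?_⟩
  have h1 := h x hx
  rw [tx_restrict hTS hx.1, tx_restrict hTS (hf.mem hx)] at h1
  exact h1

/-- Maps of `E` induce maps of `E'`. -/
theorem exists_mp_to_sub [Finite S] {p : ℕ} [Fact p.Prime] (hS : IsPGroup p S) {hTS : T ≤ S}
    (hE : E.IsSubsystemOf F) (hEs : E.IsSaturated p) (hR : F.StronglyClosed R)
    (hE' : E.IsFactorSystem (T ⊓ R) (θ.comp (Subgroup.inclusion hTS)) E') {P : Subgroup Ω}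
    {f : Ω → Ω} (hf : Mp E P f) : ∃ f', Mp E' (imageAlong θ P) f' ∧
      ∀ x ∈ P, f' (tx θ x) = tx θ (f x) := by
  have hfT : Finite T := H802.finite_of_le hTS
  obtain ⟨f', hf', h⟩ := exists_mp_factor (hS.to_le hTS) hEs (stronglyClosed_inf_sub hE hR) hE' hf
  rw [image_restrict hTS hf.le] at hf'
  refine ⟨f', hf', fun x hx => ?_⟩
  have h1 := h x hx
  rwa [tx_restrict hTS (hf.le hx), tx_restrict hTS (hf.mem hx)] at h1

/-- A point of a subgroup of `T'` is the image of a point of `T` in the preimage. -/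
theorem exists_tx_sub {hTS : T ≤ S}
    (hE' : E.IsFactorSystem (T ⊓ R) (θ.comp (Subgroup.inclusion hTS)) E') {P' : Subgroup Ω'}
    (hP' : P' ≤ T') {y : Ω'} (hy : y ∈ P') : ∃ x ∈ T ⊓ preimageAlong θ P', tx θ x = y := by
  have h1 := hP' hy
  rw [eq_image_of_factor hE', mem_image_iff] at h1
  obtain ⟨x, hx, hxS, rfl⟩ := h1
  exact ⟨x, ⟨hx, mem_pre_iff.2 ⟨hxS, hy⟩⟩, rfl⟩

/-- **Images of normal subsystems are normal.** -/
theorem isNormalIn_factor [Finite S] {p : ℕ} [Fact p.Prime] (hS : IsPGroup p S)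
    (hE : E.IsNormalIn F p) (hR : F.StronglyClosed R) (hF' : F.IsFactorSystem R θ F') {hTS : T ≤ S}
    (hE' : E.IsFactorSystem (T ⊓ R) (θ.comp (Subgroup.inclusion hTS)) E') : E'.IsNormalIn F' p := by
  obtain ⟨⟨hEs, hFs, hEi⟩, -⟩ := id hE
  have hT : F.StronglyClosed T := hEi.2.1
  have hfT : Finite T := H802.finite_of_le hTS
  obtain ⟨hEF, -, hI, hFr⟩ := isInvariantIn_iff.1 hEi
  have hRS : R ≤ S := hR.1
  have hker := hF'.2.1
  have hRE := stronglyClosed_inf_sub hEF hR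
  have hT'eq : T' = imageAlong θ T := eq_image_of_factor hE'
  have hT'S' : T' ≤ S' := by rw [hT'eq]; exact image_le hF' T
  have hfS' : Finite S' := by
    rw [← hF'.2.2.1]
    exact Finite.of_surjective θ.rangeRestrict θ.rangeRestrict_surjective
  have hS'p : IsPGroup p S' := by
    rw [← hF'.2.2.1]
    exact hS.of_surjective θ.rangeRestrict θ.rangeRestrict_surjective
  have hfT' : Finite T' := H802.finite_of_le hT'S'
  have hT'p : IsPGroup p T' := hS'p.to_le hT'S'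
  have hE's : E'.IsSaturated p := H759.isSaturated_factor (hS.to_le hTS) hEs hRE hE'
  have hF's : F'.IsSaturated p := H759.isSaturated_factor hS hFs hR hF'
  -- subsystem
  have hsub : E'.IsSubsystemOf F' := by
    refine isSubsystemOf_of_mp fun P' f' hf' => ?_
    obtain ⟨hP', f, hf, h⟩ := exists_mp_of_sub hEF hR hE' hf'
    obtain ⟨g', hg', h1⟩ := exists_mp_factor hS hFs hR hF' (mp_mono hEF hf)
    have h2 : P' ≤ imageAlong θ (T ⊓ preimageAlong θ P') := fun y hy => by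
      obtain ⟨x, hx, rfl⟩ := exists_tx_sub hE' hP' hy
      exact mem_image_of_mem hx (hTS hx.1)
    refine (hg'.res h2).congr fun y hy => ?_
    obtain ⟨x, hx, rfl⟩ := exists_tx_sub hE' hP' hy
    rw [h x hx, h1 x hx]
  have hT' : F'.StronglyClosed T' := by
    rw [hT'eq]; exact H759.stronglyClosed_image hF' hT
  -- invariance
  have hI' : InvC E' F' := by
    intro P R₀ f a h hf ha hR₀
    obtain ⟨hP', f₀, hf₀, hff⟩ := exists_mp_of_sub hEF hR hE' hf
    obtain ⟨-, a₀, ha₀, haa⟩ := (mp_factor_iff hR hF').1 ha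
    have hTp : T ≤ preimageAlong θ T' := fun x hx => mem_pre_iff.2
      ⟨hTS hx, by rw [hT'eq]; exact mem_image_of_mem hx (hTS hx)⟩
    have ha₀T := ha₀.res hTp
    set P₀ := T ⊓ preimageAlong θ P with hP₀
    obtain ⟨R₁, hR₁, -, -⟩ := ha₀T.exists_image (inf_le_left : P₀ ≤ T)
    obtain ⟨b, hb, h1, h2⟩ := ha₀T.exists_symm (inf_le_left : P₀ ≤ T) hR₁
    have hk : Mp E R₁ (fun y => a₀ (f₀ (b y))) := by
      refine hI P₀ R₁ f₀ a₀ _ hf₀ ha₀T fun y hy => ?_
      obtain ⟨x, hx, rfl⟩ := (hR₁ y).1 hy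
      exact ⟨x, hx, rfl, by rw [h1 x hx]⟩
    obtain ⟨k', hk', h3⟩ := exists_mp_to_sub hS hEF hEs hR hE' hk
    have h4 : ∀ y ∈ R₀, ∃ x ∈ P₀, tx θ (a₀ x) = y ∧ h y = tx θ (a₀ (f₀ x)) := by
      intro y hy
      obtain ⟨x, hx, rfl, hh⟩ := hR₀ y hy
      obtain ⟨x₀, hx₀, rfl⟩ := exists_tx_sub hE' hP' hx
      refine ⟨x₀, hx₀, (haa x₀ (hTp hx₀.1)).symm, ?_⟩
      rw [hh, hff x₀ hx₀, haa _ (hTp (hf₀.mem hx₀))]
    have h5 : R₀ ≤ imageAlong θ R₁ := by
      intro y hy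
      obtain ⟨x, hx, rfl, -⟩ := h4 y hy
      exact mem_image_of_mem ((hR₁ _).2 ⟨x, hx, rfl⟩) (ha₀T.mem hx.1)
    refine (hk'.res h5).congr fun y hy => ?_
    obtain ⟨x, hx, rfl, h6⟩ := h4 y hy
    rw [h3 _ ((hR₁ _).2 ⟨x, hx, rfl⟩), h6, h1 x hx]
  -- Frattini condition
  have hFr' : ∀ (P : Subgroup Ω') (f : Ω' → Ω'), P ≤ T' → Mp F' P f → FratC E' F' P f := by
    intro P f hPT' hf
    obtain ⟨-, f₀, hf₀, hff⟩ := (mp_factor_iff hR hF').1 hf
    obtain ⟨a₀, ha₀, g₀, hg₀, h1⟩ := hFr (T ⊓ preimageAlong θ P) f₀ inf_le_left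
      (hf₀.res inf_le_right)
    obtain ⟨a', ha', h2⟩ := exists_mp_factor hS hFs hR hF' ha₀
    obtain ⟨g', hg', h3⟩ := exists_mp_to_sub hS hEF hEs hR hE' hg₀
    rw [← hT'eq] at ha'
    have h4 : P ≤ imageAlong θ (T ⊓ preimageAlong θ P) := fun y hy => by
      obtain ⟨x, hx, rfl⟩ := exists_tx_sub hE' hPT' hy
      exact mem_image_of_mem hx (hTS hx.1)
    refine ⟨a', ha', g', hg'.res h4, fun y hy => ?_⟩
    obtain ⟨x, hx, rfl⟩ := exists_tx_sub hE' hPT' hy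
    rw [hff x hx.2, h3 x hx, h2 _ (hg₀.mem hx), h1 x hx]
  -- the extension condition
  rw [isNormalIn_iff hT'S']
  refine ⟨hE's, hF's, isInvariantIn_iff.2 ⟨hsub, hT', hI', hFr'⟩,
    extC_of_prime hS'p hE's hT'S' fun α' hα' hcop => ?_⟩
  -- the preimage of the centralizer
  let X : Subgroup Ω := preimageAlong θ (centralizerIn S' T')
  have hX : ∀ x, x ∈ X ↔ x ∈ S ∧ ∀ t ∈ T, x * t * x⁻¹ * t⁻¹ ∈ R := by
    intro x
    rw [mem_pre_iff, mem_centralizerIn]
    constructor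
    · rintro ⟨hx, -, h1⟩
      refine ⟨hx, fun t ht => ?_⟩
      have htS := hTS ht
      have h2 := h1 (tx θ t) (by rw [hT'eq]; exact mem_image_of_mem ht htS)
      rw [← tx_eq_one_iff hker (mul_mem (mul_mem (mul_mem hx htS) (Subgroup.inv_mem _ hx))
        (Subgroup.inv_mem _ htS)), tx_mul (mul_mem (mul_mem hx htS) (Subgroup.inv_mem _ hx))
        (Subgroup.inv_mem _ htS), tx_mul (mul_mem hx htS) (Subgroup.inv_mem _ hx), tx_mul hx htS,
        tx_inv hx, tx_inv htS, ← h2]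
      group
    · rintro ⟨hx, h1⟩
      refine ⟨hx, ?_, fun t' ht' => ?_⟩
      · rw [← hF'.2.2.1]; exact tx_mem_range x
      · rw [hT'eq, mem_image_iff] at ht'
        obtain ⟨t, ht, htS, rfl⟩ := ht'
        have h2 := (tx_eq_one_iff hker (mul_mem (mul_mem (mul_mem hx htS) (Subgroup.inv_mem _ hx))
          (Subgroup.inv_mem _ htS))).2 (h1 t ht)
        rw [tx_mul (mul_mem (mul_mem hx htS) (Subgroup.inv_mem _ hx))
          (Subgroup.inv_mem _ htS), tx_mul (mul_mem hx htS) (Subgroup.inv_mem _ hx), tx_mul hx htS,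
          tx_inv hx, tx_inv htS] at h2
        have h3 : tx θ x * tx θ t = tx θ t * tx θ x := by
          have h4 := mul_inv_eq_one.1 h2
          rw [mul_inv_eq_iff_eq_mul] at h4
          exact h4
        exact h3.symm
  -- the lift of `α'`
  obtain ⟨-, a, ha, haa⟩ := exists_mp_of_sub hEF hR hE' ((mp_iff_autGroup le_rfl α').1 hα')
  have hTle : T ≤ T ⊓ preimageAlong θ T' := fun x hx => ⟨hx, mem_pre_iff.2
      ⟨hTS hx, by rw [hT'eq]; exact mem_image_of_mem hx (hTS hx)⟩⟩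
  have ha := ha.res hTle
  have haa : ∀ (x : Ω) (hx : x ∈ T) (hx' : tx θ x ∈ T'), ((α' ⟨tx θ x, hx'⟩ : T') : Ω') = tx θ (a x) :=
    fun x hx hx' => by
      have h1 := haa x (hTle hx)
      rwa [ex_apply _ hx'] at h1
  obtain ⟨g, hg, hg1, hg2, hg3, hg4⟩ := exists_ext_mod hS hE hR hX ha
  set Y : Subgroup Ω := T ⊔ centralizerIn S T with hYdef
  have hYS : Y ≤ S := sup_le hTS inf_le_left
  have hXS : X ≤ S := fun x hx => ((hX x).1 hx).1
  have hYX : Y ≤ Y ⊔ X := le_sup_left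
  have hXX : X ≤ Y ⊔ X := le_sup_right
  have hTY : T ≤ Y := le_sup_left
  have hSY : S ≤ Subgroup.normalizer (Y : Set Ω) := le_normalizer_sup_centralizerIn hT
  have hg3' : ∀ x ∈ Y ⊔ X, x⁻¹ * g x ∈ Y := by
    intro x hx
    rw [sup_comm, H759.mem_sup_of_normalizes (hXS.trans hSY)] at hx
    obtain ⟨x₁, hx₁, y, hy, rfl⟩ := hx
    rw [hg.mul (hXX hx₁) (hYX hy)]
    have h1 : (x₁ * y)⁻¹ * (g x₁ * g y) = y⁻¹ * (x₁⁻¹ * g x₁) * y * (y⁻¹ * g y) := by group
    rw [h1]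
    exact mul_mem (mul_mem (mul_mem (Subgroup.inv_mem _ hy) (hg3 x₁ hx₁)) hy) (hTY (hg4 y hy))
  have hgm : ∀ x ∈ Y ⊔ X, g x ∈ Y ⊔ X := fun x hx => by
    have h1 : g x = x * (x⁻¹ * g x) := by group
    rw [h1]; exact mul_mem hx (hYX (hg3' x hx))
  obtain ⟨g', hg', hgg⟩ := exists_mp_factor hS hFs hR hF' hg
  -- the source of `g'`
  have hCS' : centralizerIn S' T' ≤ S' := inf_le_left
  have hCS : centralizerIn S T ≤ S := inf_le_left
  have hUle : T' ⊔ centralizerIn S' T' ≤ imageAlong θ (Y ⊔ X) := by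
    refine sup_le ?_ ?_
    · rw [hT'eq]; exact image_mono (hTY.trans hYX)
    · rw [← image_pre hF' hCS']
      exact image_mono hXX
  have hle2 : imageAlong θ (Y ⊔ X) ≤ T' ⊔ centralizerIn S' T' := by
    rw [image_sup hYS hXS, hYdef, image_sup hTS hCS, ← hT'eq]
    refine sup_le (sup_le le_sup_left ?_) ?_
    · refine le_trans ?_ le_sup_right
      intro y hy
      obtain ⟨c, hc, hcS, rfl⟩ := mem_image_iff.1 hy
      have h1 : c ∈ X := (hX c).2 ⟨hcS, fun t ht => by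
        have h2 := (mem_centralizerIn.1 hc).2 t ht
        have h3 : c * t * c⁻¹ * t⁻¹ = 1 := by rw [← h2]; group
        rw [h3]; exact one_mem _⟩
      exact (mem_pre_iff.1 h1).2
    · refine le_trans ?_ le_sup_right
      rw [image_pre hF' hCS']
  set U' : Subgroup Ω' := T' ⊔ centralizerIn S' T' with hU'
  have hU'eq : imageAlong θ (Y ⊔ X) = U' := le_antisymm hle2 hUle
  rw [hU'eq] at hg'
  have hU'S : U' ≤ S' := hg'.le
  have hfU' : Finite U' := H802.finite_of_le hU'S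
  have hU'x : ∀ y ∈ U', ∃ x ∈ Y ⊔ X, tx θ x = y := fun y hy => by
    rw [← hU'eq, mem_image_iff] at hy
    obtain ⟨x, hx, -, h⟩ := hy
    exact ⟨x, hx, h⟩
  have hg'm : ∀ y ∈ U', g' y ∈ U' := by
    intro y hy
    obtain ⟨x, hx, rfl⟩ := hU'x y hy
    rw [hgg x hx, ← hU'eq]
    exact mem_image_of_mem (hgm x hx) (hg.mem hx)
  obtain ⟨γ, hγ, hγg⟩ := hg'.exists_aut hg'm
  have hT'U' : T' ≤ U' := le_sup_left
  have hrestr : Restr hT'U' α' γ := by
    intro y hy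
    rw [← hγg y (hT'U' hy)]
    rw [hT'eq, mem_image_iff] at hy
    obtain ⟨x, hx, hxS, rfl⟩ := hy
    have hxT' : tx θ x ∈ T' := by rw [hT'eq]; exact mem_image_of_mem hx hxS
    rw [hgg x (hYX (hTY hx)), haa x hx hxT']
    exact ((tx_eq_iff hker (hTS (ha.mem hx)) (hg.mem (hYX (hTY hx)))).2 (hg1 x hx)).symm
  obtain ⟨j, hj, hjc⟩ := hrestr.exists_coprime hcop
  have hγj : γ ^ j ∈ F'.autGroup U' := Subgroup.zpow_mem _ hγ j
  -- the conditions for `γ` and its powers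
  let Y' : Subgroup Ω' := imageAlong θ Y
  have hY'U' : Y' ≤ U' := by
    rw [← hU'eq]; exact image_mono hYX
  have hT'Y' : T' ≤ Y' := by rw [hT'eq]; exact image_mono hTY
  let L : Subgroup (MulAut U') :=
    { carrier := {κ | (∀ x : U', (x : Ω')⁻¹ * (κ x : U') ∈ Y') ∧
        ∀ x : U', (x : Ω') ∈ Y' → (x : Ω')⁻¹ * (κ x : U') ∈ T'}
      one_mem' := ⟨fun x => by simp, fun x _ => by simp⟩
      mul_mem' := by
        rintro κ μ ⟨h1, h2⟩ ⟨h3, h4⟩
        have h0 : ∀ x : U', (x : Ω')⁻¹ * ((κ * μ) x : U') =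
            ((x : Ω')⁻¹ * (μ x : U')) * (((μ x : U') : Ω')⁻¹ * (κ (μ x) : U')) := fun x => by
          rw [MulAut.mul_apply]; group
        refine ⟨fun x => ?_, fun x hx => ?_⟩
        · rw [h0]; exact mul_mem (h3 x) (h1 _)
        · rw [h0]
          refine mul_mem (h4 x hx) (h2 _ ?_)
          have h5 : ((μ x : U') : Ω') = x * ((x : Ω')⁻¹ * (μ x : U')) := by group
          rw [h5]; exact mul_mem hx (hT'Y' (h4 x hx))
      inv_mem' := by
        rintro κ ⟨h1, h2⟩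
        have h0 : ∀ x : U', (x : Ω')⁻¹ * (κ⁻¹ x : U') =
            (((κ⁻¹ x : U') : Ω')⁻¹ * (κ (κ⁻¹ x) : U'))⁻¹ := fun x => by
          rw [MulAut.apply_inv_self]; group
        refine ⟨fun x => ?_, fun x hx => ?_⟩
        · rw [h0]; exact Subgroup.inv_mem _ (h1 _)
        · rw [h0]
          refine Subgroup.inv_mem _ (h2 _ ?_)
          have h5 := h1 (κ⁻¹ x)
          rw [MulAut.apply_inv_self] at h5
          have h6 : ((κ⁻¹ x : U') : Ω') = x * (((κ⁻¹ x : U') : Ω')⁻¹ * x)⁻¹ := by group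
          rw [h6]
          exact mul_mem hx (Subgroup.inv_mem _ h5) }
  have hγL : γ ∈ L := by
    refine ⟨fun y => ?_, fun y hy => ?_⟩
    · obtain ⟨x, hx, hxy⟩ := hU'x y y.2
      rw [← hγg y y.2, ← hxy, hgg x hx, ← tx_inv (sup_le hYS hXS hx),
        ← tx_mul (Subgroup.inv_mem _ (sup_le hYS hXS hx)) (hg.mem hx)]
      exact mem_image_of_mem (hg3' x hx)
        (mul_mem (Subgroup.inv_mem _ (sup_le hYS hXS hx)) (hg.mem hx))
    · obtain ⟨x, hx, hxS, hxy⟩ := mem_image_iff.1 hy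
      rw [← hγg y y.2, ← hxy, hgg x (hYX hx), ← tx_inv hxS,
        ← tx_mul (Subgroup.inv_mem _ hxS) (hg.mem (hYX hx)), hT'eq]
      exact mem_image_of_mem (hg4 x hx) (mul_mem (Subgroup.inv_mem _ hxS) (hg.mem (hYX hx)))
  obtain ⟨hL1, hL2⟩ : γ ^ j ∈ L := Subgroup.zpow_mem _ hγL j
  -- coprime action
  have hT'n : (T'.subgroupOf U').Normal := by
    have h1 : U' ≤ Subgroup.normalizer (T' : Set Ω') :=
      hU'S.trans (H759.StronglyClosed.le_normalizer hT')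
    refine ⟨fun n hn x => ?_⟩
    rw [Subgroup.mem_subgroupOf] at hn ⊢
    exact (Subgroup.mem_normalizer_iff.1 (h1 x.2) _).1 hn
  have hkey : ∀ x : U', x⁻¹ * (γ ^ j) x ∈ T'.subgroupOf U' := by
    intro x
    refine H757.inv_mul_mem_of_coprime (hS'p.to_le hU'S) hjc (T'.subgroupOf U') (Y'.subgroupOf U')
      (fun z hz => ?_) (fun z hz => ?_) (fun z => ?_) x
    · rw [Subgroup.mem_subgroupOf] at hz ⊢
      have h1 := hL2 z (hT'Y' hz)
      have h2 : (((γ ^ j) z : U') : Ω') = z * ((z : Ω')⁻¹ * ((γ ^ j) z : U')) := by group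
      rw [h2]; exact mul_mem hz h1
    · exact hL2 z hz
    · exact hL1 z
  -- conclusion
  refine ⟨ea (γ ^ j), mp_ea hU'S hγj, fun x hx => ?_, fun c hc => ?_⟩
  · rw [ea_apply _ (hT'U' hx), ex_apply _ hx]
    exact hj x hx
  · have hcU' : c ∈ U' := (le_sup_right : centralizerIn S' T' ≤ U') hc
    rw [ea_apply _ hcU']
    have h1 : c⁻¹ * (((γ ^ j) ⟨c, hcU'⟩ : U') : Ω') ∈ T' := hkey ⟨c, hcU'⟩
    refine ⟨h1, ?_⟩
    have h2 : (((γ ^ j) ⟨c, hcU'⟩ : U') : Ω') ∈ centralizerIn S' T' := by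
      refine mem_centralizerIn.2 ⟨hU'S ((γ ^ j) ⟨c, hcU'⟩).2, fun t ht => ?_⟩
      -- `t = (γ ^ j) t₀`
      have h3 := ((mp_ea hU'S hγj).res hT'U').surj (fun x hx => by
        rw [ea_apply _ (hT'U' hx), hj x hx]; exact (α' ⟨x, hx⟩).2) ht
      obtain ⟨t₀, ht₀, rfl⟩ := h3
      rw [ea_apply _ (hT'U' ht₀)]
      have h4 := (mem_centralizerIn.1 hc).2 t₀ ht₀
      have h5 : (⟨t₀, hT'U' ht₀⟩ : U') * ⟨c, hcU'⟩ = ⟨c, hcU'⟩ * ⟨t₀, hT'U' ht₀⟩ := Subtype.ext h4
      have h6 := congrArg (fun z : U' => (((γ ^ j) z : U') : Ω')) h5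
      simpa only [map_mul, Subgroup.coe_mul] using h6
    have h7 := mul_mem (Subgroup.inv_mem _ hc) h2
    exact (h7 : c⁻¹ * _ ∈ centralizerIn S' T').2

end Cfsg.Agent.H760
end

-- part: H760/QuasiNormal
section
/-!
# Subnormal subsystems in factor systems; normal subsystems of quasisimple systems (helper760)
-/

set_option autoImplicit false

namespace Cfsg.Agent.H760

open Cfsg Cfsg.FusionSystem Cfsg.Agent.H752

variable {Ω : Type*} [Group Ω] {S T R : Subgroup Ω}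
variable {F : FusionSystem S} {E : FusionSystem T}

/-- The source group of a subnormal subsystem, and the inclusion of systems. -/
theorem isSubsystemOf_of_isSubnormalIn {p : ℕ} (h : E.IsSubnormalIn F p) : E.IsSubsystemOf F := by
  induction h with
  | refl F p => exact fun P φ h => h
  | step _ hDF ih => exact fun P φ h => hDF.1.2.2.1 P (ih P h)

theorem le_of_isSubsystemOf (h : E.IsSubsystemOf F) : T ≤ S :=
  (F.le_of_mem (h T (H759.incl_mem E le_rfl))).1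

theorem isSaturated_of_isSubnormalIn {p : ℕ} (hF : F.IsSaturated p) (h : E.IsSubnormalIn F p) :
    E.IsSaturated p := by
  induction h with
  | refl F p => exact hF
  | step _ hDF ih => exact ih hDF.1.1

section subnormal

variable {Ω' : Type*} [Group Ω']

/-- The factor system of a subsystem exists. -/
theorem exists_factor_sub [Finite S] (hE : E.IsSubsystemOf F) (hR : F.StronglyClosed R) (hTS : T ≤ S)
    {θ : S →* Ω'} (hker : ∀ s : S, θ s = 1 ↔ (s : Ω) ∈ R) :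
    ∃ E' : FusionSystem (imageAlong θ T),
      E.IsFactorSystem (T ⊓ R) (θ.comp (Subgroup.inclusion hTS)) E' := by
  have hfT : Finite T := H802.finite_of_le hTS
  refine H759.exists_factorSystem (stronglyClosed_inf_sub hE hR) (fun s => ?_) (range_restrict hTS)
  rw [Subgroup.mem_inf]
  have h1 := hker (Subgroup.inclusion hTS s)
  exact ⟨fun h => ⟨s.2, h1.1 h⟩, fun h => h1.2 h.2⟩

/-- **Images of subnormal subsystems are subnormal.** -/
theorem exists_subnormal_factor {p : ℕ} (h : E.IsSubnormalIn F p) :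
    ∀ [Finite S] [Fact p.Prime] (_ : IsPGroup p S) {R : Subgroup Ω} (_ : F.StronglyClosed R) {θ : S →* Ω'}
      {S' : Subgroup Ω'} {F' : FusionSystem S'} (_ : F.IsFactorSystem R θ F') (hTS : T ≤ S),
      ∃ (T' : Subgroup Ω') (E' : FusionSystem T'),
        E.IsFactorSystem (T ⊓ R) (θ.comp (Subgroup.inclusion hTS)) E' ∧ E'.IsSubnormalIn F' p := by
  induction h with
  | refl F p =>
    intro _ _ hS R hR θ S' F' hF' hTS
    refine ⟨S', F', ?_, IsSubnormalIn.refl F' p⟩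
    have h1 : θ.comp (Subgroup.inclusion hTS) = θ := by ext x; rfl
    rw [h1, inf_eq_right.2 hR.1]
    exact hF'
  | @step U S E D F p hED hDF ih =>
    intro _ _ hS R hR θ S' F' hF' hTS
    have hUS : U ≤ S := hDF.1.2.2.2.1.1
    have hfU : Finite U := H802.finite_of_le hUS
    have hTU : T ≤ U := le_of_isSubsystemOf (isSubsystemOf_of_isSubnormalIn hED)
    obtain ⟨D', hD'⟩ := exists_factor_sub hDF.1.2.2.1 hR hUS hF'.2.1
    have hN := isNormalIn_factor hS hDF hR hF' hD'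
    obtain ⟨T', E', hE', hsub⟩ := ih (hS.to_le hUS) (stronglyClosed_inf_sub hDF.1.2.2.1 hR) hD' hTU
    refine ⟨T', E', ?_, IsSubnormalIn.step hsub hN⟩
    have h1 : T ⊓ (U ⊓ R) = T ⊓ R := by rw [← inf_assoc, inf_eq_left.2 hTU]
    rw [h1] at hE'
    exact hE'

end subnormal

/-! ### Central subgroups in terms of functions -/

theorem exists_mp_central {Z : Subgroup Ω} (hZ : F.IsCentral Z) {P : Subgroup Ω} {f : Ω → Ω}
    (hf : Mp F P f) : ∃ g, Mp F (P ⊔ Z) g ∧ (∀ x ∈ P, g x = f x) ∧ ∀ z ∈ Z, g z = z := by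
  obtain ⟨φ, hφ, h⟩ := hf
  obtain ⟨ψ, hψ, h1, h2⟩ := hZ.2 P φ hφ
  refine ⟨ex ψ, mp_ex hψ, fun x hx => ?_, fun z hz => ?_⟩
  · rw [ex_apply _ ((le_sup_left : P ≤ P ⊔ Z) hx)]
    exact (h1 ⟨x, hx⟩).trans (h x hx)
  · rw [ex_apply _ ((le_sup_right : Z ≤ P ⊔ Z) hz)]
    exact h2 ⟨z, hz⟩

theorem mp_central_apply {Z : Subgroup Ω} (hZ : F.IsCentral Z) {P : Subgroup Ω} {f : Ω → Ω}
    (hf : Mp F P f) {z : Ω} (hz : z ∈ Z) (hzP : z ∈ P) : f z = z := by
  obtain ⟨g, -, h1, h2⟩ := exists_mp_central hZ hf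
  rw [← h1 z hzP, h2 z hz]

theorem central_comm {Z : Subgroup Ω} (hZ : F.IsCentral Z) {z s : Ω} (hz : z ∈ Z) (hs : s ∈ S) :
    s * z = z * s :=
  F.center_le_centralizer (H757.IsCentral.le_center hZ hz) s hs

/-- Two systems over the same group, the smaller containing all maps of the larger modulo a central subgroup,
are equal. -/
theorem mp_of_mod_central [Finite S] {p : ℕ} [Fact p.Prime] (hS : IsPGroup p S)
    {E : FusionSystem S} (hF : F.IsSaturated p) (hEF : E.IsSubsystemOf F) {Z : Subgroup Ω}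
    (hZ : F.IsCentral Z) (h : ∀ (P : Subgroup Ω) (f : Ω → Ω), Z ≤ P → Mp F P f →
      ∃ g, Mp E P g ∧ ∀ x ∈ P, (f x)⁻¹ * g x ∈ Z) :
    ∀ (P : Subgroup Ω) (f : Ω → Ω), Mp F P f → Mp E P f := by
  refine mp_induction F hS hF (fun P f => Mp E P f) ?_ ?_ ?_ ?_ ?_
  · intro P f g _ h1 he; exact h1.congr he
  · intro P R f _ h1 hR; exact h1.res hR
  · intro P Q f g _ _ h1 h2 hPQ; exact h1.comp h2 hPQ
  · intro P R f g _ h1 _ h2; exact h1.symm h2
  · intro Q hQa hQr IH α hα f hf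
    have hQS : Q ≤ S := hQa.1
    have hfQ : Finite Q := H802.finite_of_le hQS
    have hfM : Finite (MulAut Q) := inferInstance
    have hfm : Mp F Q f := mp_of_autGroup hQS hα hf
    by_cases hZQ : Z ≤ Q
    · obtain ⟨g, hg, h1⟩ := h Q f hZQ hfm
      have hgm : ∀ x ∈ Q, g x ∈ Q := fun x hx => by
        have h2 : g x = f x * ((f x)⁻¹ * g x) := by group
        rw [h2, hf x hx]
        exact mul_mem (α _).2 (by rw [← hf x hx]; exact hZQ (h1 x hx))
      obtain ⟨γ, hγ, hγg⟩ := hg.exists_aut hgm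
      have hγF : γ ∈ F.autGroup Q := (mp_mono hEF hg).mem_autGroup hγg
      -- the normal `p`-subgroup of automorphisms trivial modulo `Z`
      let K : Subgroup (MulAut Q) := tri F hQS (H759.StronglyClosed.top (F := F)) hZ.1
      have hZs : F.StronglyClosed Z := H757.IsCentral.stronglyClosed hZ
      have hKp : IsPGroup p K := by
        obtain ⟨k, hk⟩ : ∃ k, ∀ s : S, s ^ p ^ k = 1 := by
          obtain ⟨n, hn⟩ := IsPGroup.iff_card.1 hS
          exact ⟨n, fun s => by rw [← hn]; exact pow_card_eq_one'⟩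
        rintro ⟨κ, hκ⟩
        refine ⟨k, Subtype.ext ?_⟩
        show κ ^ p ^ k = 1
        obtain ⟨h2, h3⟩ := mem_tri.1 hκ
        have h4 : ∀ (n : ℕ) (x : Ω), x ∈ Q → ea (κ ^ n) x = x * (x⁻¹ * ea κ x) ^ n := by
          intro n
          induction n with
          | zero => intro x hx; rw [pow_zero, pow_zero, ea_one hx, mul_one]
          | succ n ih =>
            intro x hx
            have h5 : ea κ x = x * (x⁻¹ * ea κ x) := by group
            have h6 : x⁻¹ * ea κ x ∈ Q := mul_mem (Subgroup.inv_mem _ hx) (ea_mem κ hx)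
            have hm := mp_ea hQS (F := F) (pow_mem h2 n)
            rw [pow_succ, ea_mul _ _ hx]
            nth_rw 1 [h5]
            rw [hm.mul hx h6, mp_central_apply hZ hm (h3 x hx (hQS hx)) h6, ih x hx, pow_succ,
              mul_assoc]
        apply MulEquiv.ext
        intro x
        apply Subtype.ext
        have h5 := h4 (p ^ k) x x.2
        have h6 : (x : Ω)⁻¹ * ea κ x ∈ S := mul_mem (Subgroup.inv_mem _ (hQS x.2))
          (hQS (ea_mem κ x.2))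
        have h7 : ((x : Ω)⁻¹ * ea κ x) ^ p ^ k = 1 := congrArg Subtype.val (hk ⟨_, h6⟩)
        rw [h7, mul_one, ea_apply _ x.2] at h5
        exact h5
      obtain ⟨k, hk, hk2⟩ := H759.exists_conj_le_of_le_sup' (autInducedBy S Q) hQa.2 K
        (fun κ hκ => (mem_tri.1 hκ).1)
        (fun a ha κ hκ => tri_conj hQS _ hZ.1 hZs ha hκ) K hKp
        (fun κ hκ => ⟨κ, hκ, 1, one_mem _, one_mem _, by rw [mul_one]⟩)
      have hKle : K ≤ autInducedBy S Q := by
        intro κ hκ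
        have h2 := hk2 (k⁻¹ * κ * k) (mul_mem (mul_mem (Subgroup.inv_mem _ hk) hκ) hk)
        have h3 : k * (k⁻¹ * κ * k) * k⁻¹ = κ := by group
        rwa [h3] at h2
      have hκ : γ⁻¹ * α ∈ K := by
        refine mem_tri.2 ⟨mul_mem (Subgroup.inv_mem _ hγF) hα, fun x hx _ => ?_⟩
        rw [ea_mul _ _ hx, ea_apply α hx, ← hf x hx]
        have h2 : f x ∈ Q := by rw [hf x hx]; exact (α _).2
        have h3 := h1 x hx
        have h4 : f x = g x * ((f x)⁻¹ * g x)⁻¹ := by group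
        have hm := mp_ea hQS (F := F) (Subgroup.inv_mem _ hγF)
        have h5 : ((f x)⁻¹ * g x)⁻¹ ∈ Z := Subgroup.inv_mem _ h3
        have h6 : ea γ⁻¹ (f x) = x * ((f x)⁻¹ * g x)⁻¹ := by
          nth_rw 1 [h4]
          rw [hm.mul (hgm x hx) (hZQ h5), mp_central_apply hZ hm h5 (hZQ h5), hγg x hx,
            ← ea_apply γ hx, ea_inv_ea γ hx]
        rw [h6, inv_mul_cancel_left]
        exact h5
      obtain ⟨t, ht, h2⟩ := H759.mem_autInducedBy.1 (hKle hκ)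
      have h3 : Mp E Q (fun x => t * x * t⁻¹) := mp_conj E hQS ht
      have h4 : ∀ x (hx : x ∈ Q), t * x * t⁻¹ = (((γ⁻¹ * α) ⟨x, hx⟩ : Q) : Ω) :=
        fun x hx => (h2 ⟨x, hx⟩).symm
      refine (h3.comp hg fun x hx => ?_).congr fun x hx => ?_
      · rw [h4 x hx]; exact Subtype.coe_prop _
      · have h5 : t * x * t⁻¹ ∈ Q := by rw [h4 x hx]; exact Subtype.coe_prop _
        rw [hγg _ h5]
        have h6 : (⟨t * x * t⁻¹, h5⟩ : Q) = (γ⁻¹ * α) ⟨x, hx⟩ := Subtype.ext (h4 x hx)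
        rw [h6, hf x hx, MulAut.mul_apply, MulAut.apply_inv_self]
    · obtain ⟨g, hg, h1, -⟩ := exists_mp_central hZ hfm
      have hlt : Nat.card Q < Nat.card (Q ⊔ Z : Subgroup Ω) := by
        have hfQZ : Finite (Q ⊔ Z : Subgroup Ω) := H802.finite_of_le hg.le
        have h2 : Q < Q ⊔ Z := lt_of_le_of_ne le_sup_left fun h3 => hZQ (h3 ▸ le_sup_right)
        refine lt_of_le_of_ne (Subgroup.card_le_of_le h2.le) fun h3 => ?_
        exact h2.ne (Subgroup.eq_of_le_of_card_ge h2.le h3.ge)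
      exact ((IH _ g hg hlt).res le_sup_left).congr fun x hx => (h1 x hx).symm

/-- **Normal subsystems of a quasisimple system** are over central subgroups or everything. -/
theorem normal_of_quasisimple [Finite S] {p : ℕ} [Fact p.Prime] (hS : IsPGroup p S)
    (hF : F.Quasisimple p) (hE : E.IsNormalIn F p) :
    T ≤ F.center ∨ (T = S ∧ ∀ P : Subgroup Ω, E.Hom P = F.Hom P) := by
  obtain ⟨hFs, hhyp, hsimple⟩ := hF
  obtain ⟨⟨hEs, -, hEi⟩, -⟩ := id hE
  have hT : F.StronglyClosed T := hEi.2.1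
  have hTS : T ≤ S := hT.1
  have hEF := hEi.1
  have hZ : F.IsCentral F.center := H757.isCentral_center F
  have hZs : F.StronglyClosed F.center := H757.IsCentral.stronglyClosed hZ
  let θ := QuotientGroup.mk' ((F.center).subgroupOf S)
  have hker : ∀ s : S, θ s = 1 ↔ (s : Ω) ∈ F.center := by
    intro s
    rw [← Subgroup.mem_subgroupOf]
    exact QuotientGroup.eq_one_iff s
  have hr : θ.range = ⊤ := by
    rw [MonoidHom.range_eq_top]
    exact QuotientGroup.mk'_surjective _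
  obtain ⟨F', hF'⟩ := H759.exists_factorSystem (F := F) hZs hker hr
  obtain ⟨hF's, hne, hsim⟩ := hsimple F' hF'
  obtain ⟨E', hE'⟩ := exists_factor_sub hEF hZs hTS hker
  have hN := isNormalIn_factor hS hE hZs hF' hE'
  rcases hsim _ E' hN with h | ⟨h, hhom⟩
  · left
    intro x hx
    have h1 : tx θ x ∈ imageAlong θ T := mem_image_of_mem hx (hTS hx)
    rw [h, Subgroup.mem_bot] at h1
    exact (tx_eq_one_iff hker (hTS hx)).1 h1
  · right
    have hTZ : ∀ x ∈ S, ∃ t ∈ T, ∃ z ∈ F.center, x = t * z := by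
      intro x hx
      have h1 : tx θ x ∈ imageAlong θ T := by rw [h]; trivial
      obtain ⟨t, ht, htS, h2⟩ := mem_image_iff.1 h1
      exact ⟨t, ht, t⁻¹ * x, (tx_eq_iff hker htS hx).1 h2, by group⟩
    have hTeq : T = S := by
      apply le_antisymm hTS
      have h1 : F.hyperfocalSubgroup p ≤ T := by
        unfold hyperfocalSubgroup
        rw [Subgroup.closure_le]
        rintro _ ⟨P, α, x, hPS, -, rfl⟩
        have hm := mp_ea hPS α.2
        obtain ⟨g, hg, h2, h3⟩ := exists_mp_central hZ hm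
        obtain ⟨t, ht, z, hz, hxtz⟩ := hTZ x (hPS x.2)
        have hxm : (x : Ω) ∈ P ⊔ F.center := (le_sup_left : P ≤ _) x.2
        have hzm : z ∈ P ⊔ F.center := (le_sup_right : F.center ≤ _) hz
        have htm : t ∈ P ⊔ F.center := by
          have h4 : t = x * z⁻¹ := by rw [hxtz]; group
          rw [h4]; exact mul_mem hxm (Subgroup.inv_mem _ hzm)
        have h5 : (((α : MulAut P) x : P) : Ω) = g x := by
          rw [h2 x x.2, ea_apply _ x.2]
        have h6 : g x = g t * z := by rw [hxtz, hg.mul htm hzm, h3 z hz]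
        have h7 : t⁻¹ * g t ∈ T := mul_mem (Subgroup.inv_mem _ ht) (mp_mem_of_stronglyClosed hT hg htm ht)
        show (x : Ω)⁻¹ * (((α : MulAut P) x : P) : Ω) ∈ T
        have h8 : (x : Ω)⁻¹ * g x = t⁻¹ * g t := by
          rw [h6, hxtz]
          have h9 := central_comm hZ hz (hTS h7)
          calc (t * z)⁻¹ * (g t * z) = z⁻¹ * ((t⁻¹ * g t) * z) := by group
            _ = z⁻¹ * (z * (t⁻¹ * g t)) := by rw [h9]
            _ = t⁻¹ * g t := by group
        rw [h5, h8]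
        exact h7
      rwa [hhyp] at h1
    subst hTeq
    refine ⟨rfl, fun P => Set.Subset.antisymm (hEF P) fun φ hφ => ?_⟩
    have key := mp_of_mod_central hS hFs hEF hZ (fun P f hZP hf => by
      obtain ⟨f', hf', h1⟩ := exists_mp_factor hS hFs hZs hF' hf
      -- `f'` is a map of `E'`
      have hf'' : Mp E' (imageAlong θ P) f' := by
        obtain ⟨φ, hφ, h2⟩ := hf'
        exact ⟨φ, by rw [hhom]; exact hφ, h2⟩
      obtain ⟨-, g, hg, h2⟩ := exists_mp_of_sub hEF hZs hE' hf''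
      have h3 : P ≤ T ⊓ preimageAlong θ (imageAlong θ P) := fun x hx =>
        ⟨hf.le hx, mem_pre_iff.2 ⟨hf.le hx, mem_image_of_mem hx (hf.le hx)⟩⟩
      refine ⟨g, hg.res h3, fun x hx => ?_⟩
      rw [← tx_eq_iff hker (hf.mem hx) (hg.mem (h3 hx)), ← h1 x hx, ← h2 x (h3 hx)])
    exact (key P (ex φ) (mp_ex hφ)).mem_hom fun x hx => (ex_apply _ hx).symm

end Cfsg.Agent.H760
end
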