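import Cfsg.Agent.H792.MinClosed
import Cfsg.Agent.H792.WeakNormal
import Cfsg.Agent.H802.FusGroup
import Cfsg.Agent.S0026
import Cfsg.Agent.TwoFusion.FStarControl
import Cfsg.Agent.H629.PIndex
import Cfsg.Prelude.Def_IsolatedElements
import Cfsg.Agent.H792.SpHeis_m3
import Cfsg.Agent.H934.IdxPSU
import Cfsg.Agent.H667.TwoPSUModel
import Cfsg.Agent.S0277
import Cfsg.Agent.LieClassical.GUOrder
import Cfsg.Agent.ClassicalGeometry.PSUAutDelta
import Cfsg.Agent.ClassicalGeometry.PSUAutTorus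
import Cfsg.Agent.ClassicalGeometry.PSUAutSemi
import Cfsg.Agent.FastGrp
import Cfsg.Agent.Prune
set_option linter.all false
prune_inst 0x7ff9fef99fb8bddedfff7e7ffef5dffdfdf87fffefdff9cbffe8ebff2fff6b02ebe5fba70fe8d2ff0ff6e29c10f87b53fdffc67feb6bdc7ffffd5ff45ffbff8fbde6bd0871d79c3e0fbc0fff63f07f8e7f3fffffffffffffffffffffffffffbefffdffffffff
open scoped Cfsg.Agent.FastGrp

-- part: H760/StrMin
section
/-!
# Strongly closed subgroups generating `G`, `O_A(G) = 1` (helper760, for S5305)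

`Sit p S A` : `A` is strongly closed in the Sylow `p`-subgroup `S`, `G = ⟨A^G⟩`, and no normal subgroup `M ≠ 1` of `G` has
`A ∩ M` as Sylow `p`-subgroup.

* `Sit.core_eq_bot` : `O_{p'}(G) = 1`;
* `Sit.inf_pCore`, `Sit.pCore_le_center` : `A ∩ O_p(G) = 1`, `O_p(G) ≤ Z(G)`;
* `Sit.comp_not_le` : `S ∩ K ≰ A` for a component `K`;
* `Sit.comp_normal` : the components are normal in `G`.
-/
set_option autoImplicit false

universe u

namespace Cfsg.Agent.H760.Str

open Subgroup Cfsg Cfsg.Agent.H792.MinClosed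
open scoped commutatorElement

variable {G : Type u} [Group G] [Finite G] {p : ℕ} [hpf : Fact p.Prime]

/-- `A` strongly closed in `S`, `G = ⟨A^G⟩` and `O_A(G) = 1`. -/
structure Sit (S : Sylow p G) (A : Subgroup G) : Prop where
  closed : IsStronglyClosed A (S : Subgroup G)
  gen : normalClosure (A : Set G) = ⊤
  max : ∀ M : Subgroup G, M.Normal → ¬ p ∣ (A ⊓ M).relIndex M → M = ⊥

variable {S : Sylow p G} {A : Subgroup G}

omit hpf [Finite G] in
theorem Sit.top_of_le (h : Sit S A) {N : Subgroup G} (hN : N.Normal) (hA : A ≤ N) : N = ⊤ :=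
  top_le_iff.1 (h.gen ▸ normalClosure_le_normal hA)

theorem Sit.core_eq_bot (h : Sit S A) : pPrimeCore p G = ⊥ := by
  refine h.max _ inferInstance fun hd => ?_
  have h1 : (A ⊓ pPrimeCore p G).relIndex (pPrimeCore p G) ∣ Nat.card (pPrimeCore p G) := relIndex_dvd_card _ _
  have h2 : Nat.Coprime (Nat.card (pPrimeCore p G)) p := Lib.Cores.pPrimeCore_coprime p
  exact ((Nat.Prime.coprime_iff_not_dvd hpf.out).1 h2.symm) (hd.trans h1)

theorem Sit.normal_le (h : Sit S A) {M : Subgroup G} (hM : M.Normal) (hMA : (S : Subgroup G) ⊓ M ≤ A) : M = ⊥ := by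
  refine h.max _ hM fun hd => ?_
  have h3 : A ⊓ M = (S : Subgroup G) ⊓ M :=
    le_antisymm (inf_le_inf_right _ h.closed.1) (le_inf hMA inf_le_right)
  rw [h3, inf_relIndex_right] at hd
  exact H222.SylowJoin.not_dvd_relIndex_of_subnormal S.2 S.not_dvd_index (Normal.isSubnormal hM) hd

theorem Sit.inf_pCore (h : Sit S A) : A ⊓ pCore p G = ⊥ := by
  have h2 : (pCore p G ⊓ A).Normal :=
    H280.StrongZJ.inf_normal_of_stronglyClosed h.closed inferInstance (Lib.Cores.pCore_le_sylow S)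
  rw [inf_comm]
  exact h.normal_le h2 (inf_le_right.trans inf_le_right)

theorem Sit.pCore_le_center (h : Sit S A) : pCore p G ≤ center G := by
  have hc : (centralizer (pCore p G : Set G)).Normal := by
    have : (pCore p G).Normal := inferInstance
    infer_instance
  have h1 : centralizer (pCore p G : Set G) = ⊤ := h.top_of_le hc fun a ha => by
    rw [mem_centralizer_iff]
    intro o ho
    exact (commute_pCore h.closed h.inf_pCore ha ho).symm
  intro x hx
  rw [mem_center_iff]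
  intro g
  have hg : g ∈ centralizer (pCore p G : Set G) := by rw [h1]; exact mem_top g
  exact ((mem_centralizer_iff.1 hg) x hx).symm

theorem Sit.comp_not_le (h : Sit S A) {K : Subgroup G} (hK : IsComponent K) : ¬ (S : Subgroup G) ⊓ K ≤ A := by
  intro hKA
  obtain ⟨N, hN, hSN, hle⟩ := exists_normal_join S h.closed
  have h1 := h.normal_le hN hSN
  have h2 : K ≤ ⊥ := by rw [← h1]; exact hle K hK.1 hKA
  have hQK : ¬ p ∣ (S : Subgroup G).relIndex K := H222.SylowJoin.not_dvd_relIndex_of_subnormal S.2 S.not_dvd_index hK.1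
  refine SignalizersComponents.PCompCore.not_le_centralizer_of_component h.core_eq_bot hK S hQK ?_
  rw [le_bot_iff.1 h2, inf_bot_eq]
  exact bot_le

/-- `A` normalizes every component. -/
theorem Sit.conj_comp (h : Sit S A) {K : Subgroup G} (hK : IsComponent K) {a : G} (ha : a ∈ A) :
    K.map (MulAut.conj a).toMonoidHom = K := by
  by_contra hne
  have hK' := SignalizersComponents.Components.isComponent_conj a hK
  have h1 : ⁅K.map (MulAut.conj a).toMonoidHom, K⁆ = ⊥ :=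
    SignalizersComponents.Components.component_commutator_eq_bot_of_ne hK' hK hne
  refine h.comp_not_le hK (le_of_proj_eq hK S h.closed fun s hs => ?_)
  -- `s⁻¹ ↦ s⁻¹ · (a s a⁻¹) ∈ A`
  refine ⟨hs, a * s⁻¹ * a⁻¹, ?_, ?_⟩
  · exact (commutator_eq_bot_iff_le_centralizer.1 h1) ⟨s⁻¹, K.inv_mem hs.2, rfl⟩
  · have h2 : s * a * s⁻¹ ∈ A :=
      h.closed.2 a ha s (mul_mem (mul_mem hs.1 (h.closed.1 ha)) (inv_mem hs.1))
    have h3 := A.mul_mem h2 (A.inv_mem ha)
    have e : s * (a * s⁻¹ * a⁻¹) = s * a * s⁻¹ * a⁻¹ := by group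
    rwa [e]

/-- The components are normal in `G`. -/
theorem Sit.comp_normal (h : Sit S A) {K : Subgroup G} (hK : IsComponent K) : K.Normal := by
  let N : Subgroup G :=
    { carrier := {g | ∀ L : Subgroup G, IsComponent L → L.map (MulAut.conj g).toMonoidHom = L}
      one_mem' := fun L _ => by
        ext x
        simp
      mul_mem' := fun {a b} ha hb L hL => by
        have e : (MulAut.conj (a * b)).toMonoidHom = ((MulAut.conj a).toMonoidHom).comp (MulAut.conj b).toMonoidHom := by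
          ext x
          simp
        rw [e, ← Subgroup.map_map, hb L hL, ha L hL]
      inv_mem' := fun {a} ha L hL => by
        have h1 := ha L hL
        conv_lhs => rw [← h1]
        rw [Subgroup.map_map]
        have e : ((MulAut.conj a⁻¹).toMonoidHom).comp (MulAut.conj a).toMonoidHom = MonoidHom.id G := by
          ext x
          show a⁻¹ * (a * x * a⁻¹) * a⁻¹⁻¹ = x
          group
        rw [e, Subgroup.map_id] }
  have hN : N.Normal := ⟨fun n hn g L hL => by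
    have hL' := SignalizersComponents.Components.isComponent_conj g⁻¹ hL
    have h1 := hn _ hL'
    have e : (MulAut.conj (g * n * g⁻¹)).toMonoidHom = ((MulAut.conj g).toMonoidHom).comp
        (((MulAut.conj n).toMonoidHom).comp (MulAut.conj g⁻¹).toMonoidHom) := by
      ext x
      simp [mul_assoc]
    rw [e, ← Subgroup.map_map, ← Subgroup.map_map, h1, Subgroup.map_map]
    have e2 : ((MulAut.conj g).toMonoidHom).comp (MulAut.conj g⁻¹).toMonoidHom = MonoidHom.id G := by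
      ext x
      show g * (g⁻¹ * x * g⁻¹⁻¹) * g⁻¹ = x
      group
    rw [e2, Subgroup.map_id]⟩
  have htop : N = ⊤ := h.top_of_le hN fun a ha L hL => h.conj_comp hL ha
  refine ⟨fun n hn g => ?_⟩
  have hg : g ∈ N := by rw [htop]; exact mem_top g
  rw [← hg K hK]
  exact ⟨n, hn, rfl⟩

end Cfsg.Agent.H760.Str
end

-- part: H760/StrCtl
section
/-!
# Control of strong fusion (helper760, for S5305)

* `ctl_of_isNormal` : `Q` normal in `F_S(G)`: `N_G(Q)` controls strong fusion in `S`;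
* `isNormal_of_mod` : criterion for `S ∩ K` normal in `F_S(G)`, `K` normal in `G`.
* `ctl_of_mul` : `D = (S ∩ D) W` normal in `H`, `W` a normal `p'`-subgroup: `N_H(S ∩ D)` controls strong fusion.
-/
set_option autoImplicit false

universe u

namespace Cfsg.Agent.H760.Str

open Subgroup Cfsg
open scoped commutatorElement

/-- the normalizer of `Q` controls strong fusion in `S` -/
def Ctl {G : Type*} [Group G] (S Q : Subgroup G) : Prop :=
  ∀ B : Subgroup G, B ≤ S → ∀ g : G, (∀ x ∈ B, g * x * g⁻¹ ∈ S) →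
    ∃ n ∈ normalizer (Q : Set G), ∀ x ∈ B, n * x * n⁻¹ = g * x * g⁻¹

variable {G : Type u} [Group G]

theorem ctl_of_isNormal {S Q : Subgroup G} [Finite G] (h : (groupFusionSystem S).IsNormal Q) : Ctl S Q := by
  intro B hB g hg
  have hφ : conjHom B g ∈ (groupFusionSystem S).Hom B := ⟨hB, fun x => hg x x.2, g, fun x => rfl⟩
  obtain ⟨ψ, ⟨-, -, n, hn⟩, hψ, hmap⟩ := h.2 _ _ hφ
  refine ⟨n, Transfer.FusionBasic.mem_normalizer_of_conj_mem fun q hq => ?_, fun x hx => ?_⟩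
  · have h1 : ψ ⟨q, mem_sup_right hq⟩ ∈ Q := by
      have h2 : ψ ⟨q, mem_sup_right hq⟩ ∈ (Q.subgroupOf (B ⊔ Q)).map ψ := ⟨⟨q, mem_sup_right hq⟩, hq, rfl⟩
      rw [hmap] at h2
      exact h2
    rw [hn] at h1
    exact h1
  · have h1 := hψ ⟨x, hx⟩
    rw [hn] at h1
    exact h1

theorem stronglyClosed_fusion {S Q : Subgroup G} (h : IsStronglyClosed Q S) : (groupFusionSystem S).StronglyClosed Q := by
  refine ⟨h.1, ?_⟩
  rintro R hR φ ⟨hRS, hφ, g, hg⟩ x
  have h1 := hφ x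
  rw [hg] at h1 ⊢
  exact h.2 _ (hR x.2) g h1

theorem isStronglyClosed_of_isNormal [Finite G] {S Q : Subgroup G} (h : (groupFusionSystem S).IsNormal Q) :
    IsStronglyClosed Q S := by
  refine ⟨h.1, fun x hx g hg => ?_⟩
  obtain ⟨n, hn, hnx⟩ := ctl_of_isNormal h (zpowers x) (zpowers_le.2 (h.1 hx)) g (by
    intro y hy
    obtain ⟨k, rfl⟩ := mem_zpowers_iff.1 hy
    rw [← conj_zpow]
    exact zpow_mem hg k)
  rw [← hnx x (mem_zpowers x)]
  exact (mem_normalizer_iff.1 hn x).1 hx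

variable [Finite G] {p : ℕ} [hpf : Fact p.Prime]

/-- `R_0 = Z`, `R_(i+1) = {x : [x, Q] ⊆ R_i}` -/
def Rel (Q Z : Subgroup G) : ℕ → G → Prop
  | 0 => fun x => x ∈ Z
  | n + 1 => fun x => ∀ q ∈ Q, Rel Q Z n (x * q * x⁻¹ * q⁻¹)

omit [Finite G] hpf in
theorem rel_iff {Q Z : Subgroup G} [(Z.subgroupOf Q).Normal] (n : ℕ) : ∀ x : Q,
    Rel Q Z n x ↔ (QuotientGroup.mk' (Z.subgroupOf Q)) x ∈ Subgroup.upperCentralSeries (Q ⧸ Z.subgroupOf Q) n := by
  induction n with
  | zero =>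
    intro x
    rw [Subgroup.upperCentralSeries_zero, mem_bot, QuotientGroup.mk'_apply, QuotientGroup.eq_one_iff]
    rfl
  | succ n ih =>
    intro x
    rw [Subgroup.mem_upperCentralSeries_succ_iff]
    constructor
    · intro h y
      obtain ⟨q, rfl⟩ := QuotientGroup.mk'_surjective (Z.subgroupOf Q) y
      have h1 := (ih (x * q * x⁻¹ * q⁻¹)).1 (h q q.2)
      rw [map_mul, map_mul, map_mul, map_inv, map_inv] at h1
      rwa [commutatorElement_def]
    · intro h q hq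
      have h1 := h ((QuotientGroup.mk' (Z.subgroupOf Q)) ⟨q, hq⟩)
      exact (ih (x * ⟨q, hq⟩ * x⁻¹ * ⟨q, hq⟩⁻¹)).2 (by
        rw [map_mul, map_mul, map_mul, map_inv, map_inv]
        rwa [commutatorElement_def] at h1)

omit [Finite G] hpf in
theorem rel_conj {Q Z : Subgroup G} (hZ : Z.Normal) {h : G} (hh : h ∈ normalizer (Q : Set G)) (n : ℕ) :
    ∀ x : G, Rel Q Z n x → Rel Q Z n (h * x * h⁻¹) := by
  induction n with
  | zero => exact fun x hx => hZ.conj_mem x hx h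
  | succ n ih =>
    intro x hx q hq
    have h1 : h⁻¹ * q * h ∈ Q := by
      have := (mem_normalizer_iff.1 (inv_mem hh) q).1 hq
      rwa [inv_inv] at this
    have h2 := ih _ (hx _ h1)
    have e : h * (x * (h⁻¹ * q * h) * x⁻¹ * (h⁻¹ * q * h)⁻¹) * h⁻¹ = h * x * h⁻¹ * q * (h * x * h⁻¹)⁻¹ * q⁻¹ := by
      group
    rwa [e] at h2

/-- **Frattini.** -/
theorem frattini_factor (S : Sylow p G) {K : Subgroup G} (hK : K.Normal) (g : G) :
    ∃ h ∈ normalizer (((S : Subgroup G) ⊓ K : Subgroup G) : Set G), ∃ k ∈ K, g = h * k := by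
  have hQKi : ¬ p ∣ (S : Subgroup G).relIndex K :=
    H222.SylowJoin.not_dvd_relIndex_of_subnormal S.2 S.not_dvd_index (Normal.isSubnormal hK)
  have hQp : IsPGroup p ↥((S : Subgroup G).subgroupOf K) := S.2.comap_of_injective K.subtype K.subtype_injective
  let P : Sylow p K := hQp.toSylow hQKi
  have : K.Normal := hK
  have hP : (P : Subgroup K).map K.subtype = (S : Subgroup G) ⊓ K := by
    show ((S : Subgroup G).subgroupOf K).map K.subtype = _
    rw [subgroupOf_map_subtype]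
  have h1 := Sylow.normalizer_sup_eq_top P
  rw [hP] at h1
  have h2 : g ∈ normalizer (((S : Subgroup G) ⊓ K : Subgroup G) : Set G) ⊔ K := by rw [h1]; exact mem_top g
  have h3 : g ∈ ((normalizer (((S : Subgroup G) ⊓ K : Subgroup G) : Set G) ⊔ K : Subgroup G) : Set G) := h2
  rw [Subgroup.mul_normal] at h3
  obtain ⟨h, hh, k, hk, rfl⟩ := h3
  exact ⟨h, hh, k, hk, rfl⟩

/-- **Criterion.** `Q = S ∩ K`, `Z` central in `K`, normal in `G`. -/
theorem isNormal_of_mod (S : Sylow p G) {K Z : Subgroup G} (hK : K.Normal) (hZ : Z.Normal)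
    (hZS : Z ≤ (S : Subgroup G) ⊓ K) (hZK : ∀ z ∈ Z, ∀ k ∈ (S : Subgroup G) ⊓ K, k * z = z * k)
    (hctl : ∀ x ∈ (S : Subgroup G) ⊓ K, ∀ g ∈ K, g * x * g⁻¹ ∈ (S : Subgroup G) →
      ∃ n ∈ K, n ∈ normalizer (((S : Subgroup G) ⊓ K : Subgroup G) : Set G) ∧ (n * x * n⁻¹)⁻¹ * (g * x * g⁻¹) ∈ Z) :
    (groupFusionSystem (S : Subgroup G)).IsNormal ((S : Subgroup G) ⊓ K) := by
  classical
  obtain ⟨Q, hQ⟩ : ∃ Q, Q = (S : Subgroup G) ⊓ K := ⟨_, rfl⟩
  rw [← hQ] at hZS hZK hctl ⊢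
  have hQS : Q ≤ (S : Subgroup G) := by rw [hQ]; exact inf_le_left
  have hQK : Q ≤ K := by rw [hQ]; exact inf_le_right
  -- every element is a product of an element of `N(Q)` and one of `K`
  have hfr : ∀ g : G, ∃ h ∈ normalizer (Q : Set G), ∃ k ∈ K, g = h * k := by
    intro g
    rw [hQ]
    exact frattini_factor S hK g
  have hQp : IsPGroup p Q := S.2.to_le hQS
  have hnilQ : Group.IsNilpotent Q := hQp.isNilpotent
  have hZn : (Z.subgroupOf Q).Normal := hZ.subgroupOf Q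
  have hnil : Group.IsNilpotent (Q ⧸ Z.subgroupOf Q) := Group.nilpotent_quotient_of_nilpotent _
  obtain ⟨m, hm⟩ := hnil.nilpotent
  let C : ℕ → Subgroup G := fun n =>
    ((Subgroup.upperCentralSeries (Q ⧸ Z.subgroupOf Q) n).comap (QuotientGroup.mk' (Z.subgroupOf Q))).map Q.subtype
  have hC : ∀ n x, x ∈ C n ↔ x ∈ Q ∧ Rel Q Z n x := by
    intro n x
    constructor
    · rintro ⟨y, hy, rfl⟩
      exact ⟨y.2, (rel_iff n y).2 hy⟩
    · rintro ⟨hx, hr⟩
      exact ⟨⟨x, hx⟩, (rel_iff n ⟨x, hx⟩).1 hr, rfl⟩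
  have hCQ : ∀ n, C n ≤ Q := fun n x hx => ((hC n x).1 hx).1
  have hZC : ∀ n, Z ≤ C n := by
    intro n z hz
    refine ⟨⟨z, hZS hz⟩, ?_, rfl⟩
    have h1 : (QuotientGroup.mk' (Z.subgroupOf Q)) ⟨z, hZS hz⟩ = 1 := (QuotientGroup.eq_one_iff _).2 hz
    rw [SetLike.mem_coe, mem_comap, h1]
    exact one_mem _
  have hCh : ∀ n, ∀ h ∈ normalizer (Q : Set G), ∀ x ∈ C n, h * x * h⁻¹ ∈ C n := by
    intro n h hh x hx
    rw [hC] at hx ⊢
    exact ⟨(mem_normalizer_iff.1 hh x).1 hx.1, rel_conj hZ hh n x hx.2⟩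
  have hclosed : ∀ n, IsStronglyClosed (C n) (S : Subgroup G) := by
    intro n
    refine ⟨(hCQ n).trans hQS, fun x hx g hg => ?_⟩
    obtain ⟨h, hh, k, hk, rfl⟩ := hfr g
    have hxK : x ∈ K := hQK (hCQ n hx)
    have hgQ : h * k * x * (h * k)⁻¹ ∈ Q := by
      rw [hQ]
      exact ⟨hg, hK.conj_mem x hxK _⟩
    have hy : k * x * k⁻¹ ∈ Q := by
      have h1 := (mem_normalizer_iff.1 (inv_mem hh) _).1 hgQ
      have e : h⁻¹ * (h * k * x * (h * k)⁻¹) * h⁻¹⁻¹ = k * x * k⁻¹ := by group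
      rwa [e] at h1
    obtain ⟨n', -, hn', hz⟩ := hctl x (hCQ n hx) k hk (hQS hy)
    have h2 := (C n).mul_mem (hCh n n' hn' x hx) (hZC n hz)
    rw [mul_inv_cancel_left] at h2
    have h3 := hCh n h hh _ h2
    have e : h * (k * x * k⁻¹) * h⁻¹ = h * k * x * (h * k)⁻¹ := by group
    rwa [e] at h3
  have hfinS : Finite (S : Subgroup G) := inferInstance
  let c : ℕ → Subgroup G := fun i => match i with
    | 0 => ⊥
    | i + 1 => C i
  have hc0 : c 0 = ⊥ := rfl
  have hcs : ∀ i, c (i + 1) = C i := fun _ => rfl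
  refine H759.isNormal_of_chain S.2 (H802.groupFusionSystem_isSaturated S) (m + 1) c hc0 ?_ ?_ ?_
  · rw [hcs]
    refine le_antisymm (hCQ m) fun x hx => ⟨⟨x, hx⟩, ?_, rfl⟩
    rw [SetLike.mem_coe, mem_comap, hm]
    exact mem_top _
  · intro i _
    cases i with
    | zero =>
      rw [hc0]
      refine stronglyClosed_fusion ⟨bot_le, fun x hx g _ => ?_⟩
      rw [mem_bot] at hx ⊢
      rw [hx, mul_one, mul_inv_cancel]
    | succ i => exact stronglyClosed_fusion (hclosed i)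
  · intro i _
    cases i with
    | zero =>
      rw [hc0, hcs, commutator_le]
      intro q hq x hx
      have hxZ : x ∈ Z := ((hC 0 x).1 hx).2
      rw [mem_bot, commutatorElement_def, hZK x hxZ q hq, mul_inv_cancel_right, mul_inv_cancel]
    | succ i =>
      rw [hcs, hcs, commutator_le]
      intro q hq x hx
      have hxQ := hCQ _ hx
      have h1 : x * q * x⁻¹ * q⁻¹ ∈ C i := by
        rw [hC]
        exact ⟨Q.mul_mem (Q.mul_mem (Q.mul_mem hxQ hq) (Q.inv_mem hxQ)) (Q.inv_mem hq), ((hC _ x).1 hx).2 q hq⟩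
      have h2 := (C i).inv_mem h1
      have e : (x * q * x⁻¹ * q⁻¹)⁻¹ = ⁅q, x⁆ := by
        rw [commutatorElement_def]; group
      rwa [e] at h2

/-- **The last step**: `D = (S ∩ D) W`, `D` normal, `W` a normal `p'`-subgroup. -/
theorem ctl_of_mul (S : Sylow p G) {D W : Subgroup G} (hD : D.Normal) (hW : W.Normal)
    (hWp : ¬ p ∣ Nat.card W) (hDW : ∀ d ∈ D, ∃ w ∈ W, ∃ s ∈ (S : Subgroup G) ⊓ D, d = w * s) :
    Ctl (S : Subgroup G) ((S : Subgroup G) ⊓ D) := by
  intro B hB g hg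
  obtain ⟨T, hT⟩ : ∃ T, T = (S : Subgroup G) ⊓ D := ⟨_, rfl⟩
  obtain ⟨h0, hh0, d, hd, hgd⟩ := frattini_factor S hD g
  -- `g = w n₁`
  have hd' : h0 * d * h0⁻¹ ∈ D := hD.conj_mem d hd h0
  obtain ⟨w, hw, s, hs, hws⟩ := hDW _ hd'
  have hn1 : s * h0 ∈ normalizer (((S : Subgroup G) ⊓ D : Subgroup G) : Set G) := mul_mem (le_normalizer hs) hh0
  have hg1 : g = w * (s * h0) := by
    rw [← mul_assoc, ← hws, hgd]; group
  obtain ⟨n1, hn1e⟩ : ∃ n1, n1 = s * h0 := ⟨_, rfl⟩
  rw [← hn1e] at hn1 hg1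
  rw [← hT] at hn1 ⊢
  -- the group `Y`
  have hSN : (S : Subgroup G) ≤ normalizer (T : Set G) := by
    intro s hs
    refine Transfer.FusionBasic.mem_normalizer_of_conj_mem fun t ht => ?_
    rw [hT] at ht ⊢
    exact ⟨(S : Subgroup G).mul_mem ((S : Subgroup G).mul_mem hs ht.1) ((S : Subgroup G).inv_mem hs), hD.conj_mem t ht.2 s⟩
  let Y : Subgroup G := ((S : Subgroup G) ⊔ W) ⊓ normalizer (T : Set G)
  have hSY : (S : Subgroup G) ≤ Y := le_inf le_sup_left hSN
  have hmemSW : ∀ y ∈ (S : Subgroup G) ⊔ W, ∃ a ∈ (S : Subgroup G), ∃ v ∈ W, y = a * v := by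
    intro y hy
    have h3 : y ∈ (((S : Subgroup G) ⊔ W : Subgroup G) : Set G) := hy
    rw [Subgroup.mul_normal] at h3
    obtain ⟨a, ha, v, hv, rfl⟩ := h3
    exact ⟨a, ha, v, hv, rfl⟩
  have hB1Y : B.map (MulAut.conj n1).toMonoidHom ≤ Y := by
    rintro _ ⟨x, hx, rfl⟩
    refine ⟨?_, (normalizer (T : Set G)).mul_mem ((normalizer (T : Set G)).mul_mem hn1 (hSN (hB hx)))
      ((normalizer (T : Set G)).inv_mem hn1)⟩
    have h1 : (MulAut.conj n1).toMonoidHom x = w⁻¹ * (g * x * g⁻¹) * w := by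
      show n1 * x * n1⁻¹ = _
      rw [hg1]; group
    rw [h1]
    exact Subgroup.mul_mem _ (Subgroup.mul_mem _ (mem_sup_right (W.inv_mem hw)) (mem_sup_left (hg x hx))) (mem_sup_right hw)
  have hB1p : IsPGroup p (B.map (MulAut.conj n1).toMonoidHom) := (S.2.to_le hB).map _
  let SY : Sylow p Y := S.subtype hSY
  obtain ⟨y, hy⟩ := ClosedTwo.Elem.exists_conj_le SY (P := (B.map (MulAut.conj n1).toMonoidHom).subgroupOf Y)
    (hB1p.comap_of_injective Y.subtype Y.subtype_injective)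
  have hyS : ∀ x ∈ B, (y : G) * (n1 * x * n1⁻¹) * (y : G)⁻¹ ∈ (S : Subgroup G) := by
    intro x hx
    have h1 : n1 * x * n1⁻¹ ∈ B.map (MulAut.conj n1).toMonoidHom := ⟨x, hx, rfl⟩
    exact hy ⟨_, hB1Y h1⟩ h1
  obtain ⟨a, ha, v, hv, hyav⟩ := hmemSW y y.2.1
  have hvS : ∀ x ∈ B, (v * n1) * x * (v * n1)⁻¹ ∈ (S : Subgroup G) := by
    intro x hx
    have h1 := mul_mem (mul_mem (inv_mem ha) (hyS x hx)) ha
    rw [hyav] at h1
    have e : a⁻¹ * (a * v * (n1 * x * n1⁻¹) * (a * v)⁻¹) * a = (v * n1) * x * (v * n1)⁻¹ := by group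
    rwa [e] at h1
  have hvN : v ∈ normalizer (T : Set G) := by
    have : v = a⁻¹ * y := by rw [hyav]; group
    rw [this]
    exact mul_mem (inv_mem (hSN ha)) y.2.2
  refine ⟨v * n1, mul_mem hvN hn1, fun x hx => ?_⟩
  -- comparison
  obtain ⟨u, hu⟩ : ∃ u, u = w * v⁻¹ := ⟨_, rfl⟩
  have huW : u ∈ W := by rw [hu]; exact mul_mem hw (inv_mem hv)
  obtain ⟨b, hb⟩ : ∃ b, b = (v * n1) * x * (v * n1)⁻¹ := ⟨_, rfl⟩
  have hbS : b ∈ (S : Subgroup G) := by rw [hb]; exact hvS x hx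
  have hgb : g * x * g⁻¹ = u * b * u⁻¹ := by
    rw [hg1, hu, hb]; group
  have h1 : b⁻¹ * (u * b * u⁻¹) ∈ (S : Subgroup G) := by
    rw [← hgb]
    exact mul_mem (inv_mem hbS) (hg x hx)
  have h2 : b⁻¹ * (u * b * u⁻¹) ∈ W := by
    have := mul_mem (hW.conj_mem u huW b⁻¹) (inv_mem huW)
    have e : b⁻¹ * u * b⁻¹⁻¹ * u⁻¹ = b⁻¹ * (u * b * u⁻¹) := by group
    rwa [e] at this
  have h3 : b⁻¹ * (u * b * u⁻¹) = 1 := by
    obtain ⟨k, hk⟩ := S.2 ⟨_, h1⟩
    have hk' : (b⁻¹ * (u * b * u⁻¹)) ^ p ^ k = 1 := congrArg Subtype.val hk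
    have h4 : orderOf (b⁻¹ * (u * b * u⁻¹)) ∣ p ^ k := orderOf_dvd_of_pow_eq_one hk'
    have h5 : orderOf (b⁻¹ * (u * b * u⁻¹)) ∣ Nat.card W := by
      have := orderOf_dvd_natCard (⟨_, h2⟩ : W)
      rwa [← Subgroup.orderOf_coe] at this
    have h6 : Nat.Coprime (p ^ k) (Nat.card W) := Nat.Coprime.pow_left k ((hpf.out.coprime_iff_not_dvd).2 hWp)
    exact orderOf_eq_one_iff.1 (Nat.eq_one_of_dvd_coprimes h6 h4 h5)
  rw [hgb, ← hb]
  exact inv_mul_eq_one.1 h3

end Cfsg.Agent.H760.Str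
end

-- part: H760/StrNil
section
/-!
# A normal `p`-complement (helper760, for S5305)

`exists_compl` : if the `p'`-elements of `D` lie in the normal subgroup `C` and centralize `P ∩ C`, `P` a Sylow `p`-subgroup of
`D`, then they form a normal subgroup `W` and `D = W P`.
-/
set_option autoImplicit false

universe u

namespace Cfsg.Agent.H760.Str

open Subgroup Cfsg
open scoped commutatorElement

variable {G : Type u} [Group G] [Finite G] {p : ℕ} [hpf : Fact p.Prime]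

omit [Finite G] in
theorem coprime_of_dvd_pow {a b : ℕ} (ha : ¬ p ∣ a) (k : ℕ) (hb : b ∣ p ^ k) : Nat.Coprime a b :=
  Nat.Coprime.coprime_dvd_right hb (Nat.Coprime.pow_right k ((hpf.out.coprime_iff_not_dvd.2 ha).symm))

theorem exists_compl (P : Sylow p G) (C : Subgroup G) (h1 : ∀ x : G, ¬ p ∣ orderOf x → x ∈ C)
    (h2 : ∀ x : G, ¬ p ∣ orderOf x → ∀ y ∈ (P : Subgroup G) ⊓ C, x * y = y * x) :
    ∃ W : Subgroup G, W.Normal ∧ ¬ p ∣ Nat.card W ∧ (∀ x, x ∈ W ↔ ¬ p ∣ orderOf x) ∧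
      ∀ d : G, ∃ w ∈ W, ∃ s ∈ (P : Subgroup G), d = w * s := by
  classical
  obtain ⟨E, hE⟩ : ∃ E : Subgroup G, E = normalClosure {x | ¬ p ∣ orderOf x} := ⟨_, rfl⟩
  have hmemE : ∀ x : G, ¬ p ∣ orderOf x → x ∈ E := fun x hx => by rw [hE]; exact subset_normalClosure hx
  have hordc : ∀ x g : G, orderOf (g * x * g⁻¹) = orderOf x := fun x g =>
    orderOf_injective (MulAut.conj g).toMonoidHom (MulAut.conj g).injective x
  have hEn : E.Normal := by rw [hE]; exact normalClosure_normal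
  have hconj : Group.conjugatesOfSet {x : G | ¬ p ∣ orderOf x} ⊆ {x | ¬ p ∣ orderOf x} := by
    intro x hx
    obtain ⟨y, hy, hxy⟩ := Group.mem_conjugatesOfSet_iff.1 hx
    obtain ⟨g, rfl⟩ := isConj_iff.1 hxy
    show ¬ p ∣ orderOf (g * y * g⁻¹)
    rw [hordc]
    exact hy
  have hEcl : E ≤ centralizer (((P : Subgroup G) ⊓ C : Subgroup G) : Set G) := by
    rw [hE]
    show Subgroup.closure _ ≤ _
    rw [closure_le]
    intro x hx
    rw [SetLike.mem_coe, mem_centralizer_iff]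
    intro y hy
    exact (h2 x (hconj hx) y hy).symm
  have hEC : E ≤ C := by
    rw [hE]
    show Subgroup.closure _ ≤ _
    rw [closure_le]
    intro x hx
    exact h1 x (hconj hx)
  -- the Sylow subgroup of `E`
  have hPEp : IsPGroup p ↥((P : Subgroup G).subgroupOf E) := P.2.comap_of_injective E.subtype E.subtype_injective
  have hPEi : ¬ p ∣ ((P : Subgroup G).subgroupOf E).index :=
    H222.SylowJoin.not_dvd_relIndex_of_subnormal P.2 P.not_dvd_index (Normal.isSubnormal hEn)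
  let PE : Sylow p E := hPEp.toSylow hPEi
  have hPE : (PE : Subgroup E) = (P : Subgroup G).subgroupOf E := rfl
  have hNC : normalizer ((PE : Subgroup E) : Set E) ≤ centralizer ((PE : Subgroup E) : Set E) := by
    intro e _
    rw [mem_centralizer_iff]
    intro y hy
    have hyP : (y : G) ∈ (P : Subgroup G) ⊓ C := ⟨hy, hEC y.2⟩
    exact Subtype.ext ((mem_centralizer_iff.1 (hEcl e.2)) y hyP)
  have hcompl := MonoidHom.ker_transferSylow_isComplement' PE hNC
  obtain ⟨τ, hτ⟩ : ∃ τ, τ = MonoidHom.transferSylow PE hNC := ⟨_, rfl⟩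
  rw [← hτ] at hcompl
  let W : Subgroup G := τ.ker.map E.subtype
  have hcW : Nat.card W = (PE : Subgroup E).index := by
    rw [Nat.card_congr (τ.ker.equivMapOfInjective E.subtype E.subtype_injective).toEquiv.symm]
    have h3 := hcompl.card_mul_card
    have h4 := (PE : Subgroup E).card_mul_index
    rw [← h3, mul_comm] at h4
    exact (Nat.eq_of_mul_eq_mul_right Nat.card_pos h4).symm
  have hWp : ¬ p ∣ Nat.card W := by rw [hcW]; exact PE.not_dvd_index
  have hmemW : ∀ x, x ∈ W ↔ ¬ p ∣ orderOf x := by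
    intro x
    constructor
    · intro hx hd
      have h3 : orderOf x ∣ Nat.card W := by
        have := orderOf_dvd_natCard (⟨x, hx⟩ : W)
        rwa [← Subgroup.orderOf_coe] at this
      exact hWp (hd.trans h3)
    · intro hx
      refine ⟨⟨x, hmemE x hx⟩, ?_, rfl⟩
      show τ _ = 1
      obtain ⟨k, hk⟩ := PE.2 (τ ⟨x, hmemE x hx⟩)
      have h3 : orderOf (τ ⟨x, hmemE x hx⟩) ∣ p ^ k := orderOf_dvd_of_pow_eq_one hk
      have h4 : orderOf (τ ⟨x, hmemE x hx⟩) ∣ orderOf x := by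
        have h5 := orderOf_map_dvd τ (⟨x, hmemE x hx⟩ : E)
        have h6 : orderOf (⟨x, hmemE x hx⟩ : E) = orderOf x := (Subgroup.orderOf_coe _).symm
        rwa [h6] at h5
      exact orderOf_eq_one_iff.1 (Nat.eq_one_of_dvd_coprimes (coprime_of_dvd_pow hx k dvd_rfl) h4 h3)
  have hWn : W.Normal := ⟨fun x hx g => by
    rw [hmemW] at hx ⊢
    rwa [hordc]⟩
  refine ⟨W, hWn, hWp, hmemW, fun d => ?_⟩
  -- the index of `W` is a power of `p`
  have hcard0 : Nat.card G ≠ 0 := Nat.card_pos.ne'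
  obtain ⟨k, m, hm, e⟩ := Nat.exists_eq_pow_mul_and_not_dvd hcard0 p hpf.out.ne_one
  have hpow : ∀ x : G, x ^ p ^ k ∈ W := by
    intro x
    rw [hmemW]
    intro hd
    have h3 : orderOf (x ^ p ^ k) ∣ m := by
      apply orderOf_dvd_of_pow_eq_one
      rw [← pow_mul, ← e, pow_card_eq_one']
    exact hm (hd.trans h3)
  have hquot : IsPGroup p (G ⧸ W) := by
    intro x
    obtain ⟨y, rfl⟩ := QuotientGroup.mk'_surjective W x
    exact ⟨k, by rw [← map_pow]; exact (QuotientGroup.eq_one_iff _).2 (hpow y)⟩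
  obtain ⟨n, hn⟩ := IsPGroup.iff_card.1 hquot
  have hidx : (W ⊔ (P : Subgroup G)).index = 1 := by
    have h3 : (W ⊔ (P : Subgroup G)).index ∣ p ^ n := by
      rw [← hn]
      exact index_dvd_of_le le_sup_left
    have h4 : (W ⊔ (P : Subgroup G)).index ∣ (P : Subgroup G).index := index_dvd_of_le le_sup_right
    exact Nat.eq_one_of_dvd_coprimes (coprime_of_dvd_pow P.not_dvd_index n dvd_rfl) h4 h3
  have h5 : d ∈ W ⊔ (P : Subgroup G) := by rw [index_eq_one.1 hidx]; exact mem_top d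
  have h6 : d ∈ ((W ⊔ (P : Subgroup G) : Subgroup G) : Set G) := h5
  rw [Subgroup.normal_mul] at h6
  obtain ⟨w, hw, s, hs, rfl⟩ := h6
  exact ⟨w, hw, s, hs, rfl⟩

end Cfsg.Agent.H760.Str
end

-- part: H760/StrMain
section
/-!
# The main argument (helper760, for S5305)

`Cfg S A T` : the situation `Sit S A`, with the components `K` of two types: `T K`: `S ∩ K` is normal in `F_S(G)` and `A ∩ K`
consists of nongenerators of `S ∩ K`; `¬ T K`: `A ≤ (A ∩ K) C_G(K)`, `A ∩ K` abelian and normal in `F_S(G)`.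

* `Cfg.ctl_A` : `N_G(A)` controls strong fusion in `S`;
* `Cfg.ctl_S` : if `T K` for all components then `N_G(S)` controls strong fusion in `S`.
-/
set_option autoImplicit false

universe u

namespace Cfsg.Agent.H760.Str

open Subgroup Cfsg
open scoped commutatorElement

variable {G : Type u} [Group G] [Finite G] {p : ℕ} [hpf : Fact p.Prime]

/-- the hypotheses of the main argument -/
structure Cfg (S : Sylow p G) (A : Subgroup G) (T : Subgroup G → Prop) : Prop where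
  sit : Sit S A
  split : ∀ K : Subgroup G, IsComponent K → T K → ∀ s ∈ (S : Subgroup G), (∀ q ∈ (S : Subgroup G) ⊓ K, s * q = q * s) →
    ∃ k c : G, k ∈ (S : Subgroup G) ⊓ K ∧ c ∈ centralizer (K : Set G) ∧ s = k * c
  normN : ∀ K : Subgroup G, IsComponent K → T K → (groupFusionSystem (S : Subgroup G)).IsNormal ((S : Subgroup G) ⊓ K)
  gen : ∀ K : Subgroup G, IsComponent K → T K → ∀ X : Subgroup G, X ≤ (S : Subgroup G) ⊓ K →
    X ⊔ (A ⊓ K) = (S : Subgroup G) ⊓ K → X = (S : Subgroup G) ⊓ K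
  normG : ∀ K : Subgroup G, IsComponent K → ¬ T K → (groupFusionSystem (S : Subgroup G)).IsNormal (A ⊓ K)
  abG : ∀ K : Subgroup G, IsComponent K → ¬ T K → ∀ x ∈ A ⊓ K, ∀ y ∈ A ⊓ K, x * y = y * x
  facG : ∀ K : Subgroup G, IsComponent K → ¬ T K → ∀ a ∈ A, ∃ k ∈ A ⊓ K, k⁻¹ * a ∈ centralizer (K : Set G)

open Classical in
/-- `S ∩ K` or `A ∩ K` -/
noncomputable def BB (S : Sylow p G) (A : Subgroup G) (T : Subgroup G → Prop) (K : Subgroup G) : Subgroup G :=
  if T K then (S : Subgroup G) ⊓ K else A ⊓ K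

/-- the product of the subgroups `BB K` -/
noncomputable def QQ (S : Sylow p G) (A : Subgroup G) (T : Subgroup G → Prop) : Subgroup G :=
  sSup {B | ∃ K : Subgroup G, IsComponent K ∧ B = BB S A T K}

variable {S : Sylow p G} {A : Subgroup G} {T : Subgroup G → Prop}

omit [Finite G] hpf in
theorem BB_pos {K : Subgroup G} (h : T K) : BB S A T K = (S : Subgroup G) ⊓ K := if_pos h

omit [Finite G] hpf in
theorem BB_neg {K : Subgroup G} (h : ¬ T K) : BB S A T K = A ⊓ K := if_neg h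

omit [Finite G] hpf in
theorem BB_le_QQ {K : Subgroup G} (hK : IsComponent K) : BB S A T K ≤ QQ S A T := le_sSup ⟨K, hK, rfl⟩

omit [Finite G] hpf in
theorem BB_le (K : Subgroup G) : BB S A T K ≤ K := by
  by_cases h : T K
  · rw [BB_pos h]; exact inf_le_right
  · rw [BB_neg h]; exact inf_le_right

namespace Cfg

variable (h : Cfg S A T)
include h

omit hpf in
theorem normal_QQ : (groupFusionSystem (S : Subgroup G)).IsNormal (QQ S A T) := by
  refine H792.isNormal_sSup ?_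
  rintro _ ⟨K, hK, rfl⟩
  by_cases hT : T K
  · rw [BB_pos hT]; exact h.normN K hK hT
  · rw [BB_neg hT]; exact h.normG K hK hT

omit hpf in
theorem QQ_le : QQ S A T ≤ (S : Subgroup G) := h.normal_QQ.1

theorem conj_BB {K : Subgroup G} (hK : IsComponent K) {g : G} (hg : g ∈ normalizer (QQ S A T : Set G)) {x : G}
    (hx : x ∈ BB S A T K) : g * x * g⁻¹ ∈ BB S A T K := by
  have h1 : g * x * g⁻¹ ∈ (S : Subgroup G) := h.QQ_le ((mem_normalizer_iff.1 hg x).1 (BB_le_QQ hK hx))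
  have h2 : g * x * g⁻¹ ∈ K := (h.sit.comp_normal hK).conj_mem x (BB_le K hx) g
  by_cases hT : T K
  · rw [BB_pos hT]; exact ⟨h1, h2⟩
  · rw [BB_neg hT] at hx ⊢
    exact ⟨h.sit.closed.2 x hx.1 g h1, h2⟩

theorem conj_SK {K : Subgroup G} (hK : IsComponent K) (hT : T K) {g : G} (hg : g ∈ normalizer (QQ S A T : Set G)) {x : G}
    (hx : x ∈ (S : Subgroup G) ⊓ K) : g * x * g⁻¹ ∈ (S : Subgroup G) ⊓ K := by
  have := h.conj_BB hK hg (x := x) (by rw [BB_pos hT]; exact hx)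
  rwa [BB_pos hT] at this

theorem conj_AK {K : Subgroup G} (hK : IsComponent K) {g : G} (hg : g ∈ normalizer (QQ S A T : Set G)) {x : G}
    (hx : x ∈ A ⊓ K) : g * x * g⁻¹ ∈ A ⊓ K := by
  by_cases hT : T K
  · have h1 := h.conj_SK hK hT hg (x := x) ⟨h.sit.closed.1 hx.1, hx.2⟩
    exact ⟨h.sit.closed.2 x hx.1 g h1.1, h1.2⟩
  · have := h.conj_BB hK hg (x := x) (by rw [BB_neg hT]; exact hx)
    rwa [BB_neg hT] at this

theorem centralizer_normal {K : Subgroup G} (hK : IsComponent K) : (centralizer (K : Set G)).Normal := by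
  have := h.sit.comp_normal hK
  infer_instance

/-- the subgroup `D` -/
def DD : Subgroup G where
  carrier := {g | g ∈ normalizer (QQ S A T : Set G) ∧ ∀ K : Subgroup G, IsComponent K →
    (T K → ∀ s ∈ (S : Subgroup G) ⊓ K, g * s * g⁻¹ * s⁻¹ ∈ A) ∧
    (¬ T K → ∃ k ∈ A ⊓ K, k⁻¹ * g ∈ centralizer (K : Set G))}
  one_mem' := by
    refine ⟨one_mem _, fun K _ => ⟨fun _ s _ => ?_, fun _ => ⟨1, one_mem _, ?_⟩⟩⟩
    · rw [one_mul, inv_one, mul_one, mul_inv_cancel]; exact one_mem _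
    · rw [inv_one, one_mul]; exact one_mem _
  mul_mem' := by
    rintro d d' ⟨hd, h1⟩ ⟨hd', h2⟩
    refine ⟨(normalizer (QQ S A T : Set G)).mul_mem hd hd', fun K hK => ⟨fun hT s hs => ?_, fun hT => ?_⟩⟩
    · have e : d * d' * s * (d * d')⁻¹ * s⁻¹ = d * (d' * s * d'⁻¹ * s⁻¹) * d⁻¹ * (d * s * d⁻¹ * s⁻¹) := by group
      rw [e]
      refine A.mul_mem ?_ ((h1 K hK).1 hT s hs)
      have h3 : d' * s * d'⁻¹ * s⁻¹ ∈ (S : Subgroup G) ⊓ K :=
        mul_mem (h.conj_SK hK hT hd' hs) (inv_mem hs)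
      exact (h.conj_AK hK hd ⟨(h2 K hK).1 hT s hs, h3.2⟩).1
    · obtain ⟨k, hk, hc⟩ := (h1 K hK).2 hT
      obtain ⟨k', hk', hc'⟩ := (h2 K hK).2 hT
      refine ⟨k * k', mul_mem hk hk', ?_⟩
      have e : (k * k')⁻¹ * (d * d') = k'⁻¹ * (k⁻¹ * d) * k'⁻¹⁻¹ * (k'⁻¹ * d') := by group
      rw [e]
      exact mul_mem ((h.centralizer_normal hK).conj_mem _ hc _) hc'
  inv_mem' := by
    rintro d ⟨hd, h1⟩
    refine ⟨(normalizer (QQ S A T : Set G)).inv_mem hd, fun K hK => ⟨fun hT s hs => ?_, fun hT => ?_⟩⟩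
    · have hs' : d⁻¹ * s * d⁻¹⁻¹ ∈ (S : Subgroup G) ⊓ K := h.conj_SK hK hT (inv_mem hd) hs
      have h2 := A.inv_mem ((h1 K hK).1 hT _ hs')
      have e : (d * (d⁻¹ * s * d⁻¹⁻¹) * d⁻¹ * (d⁻¹ * s * d⁻¹⁻¹)⁻¹)⁻¹ = d⁻¹ * s * d⁻¹⁻¹ * s⁻¹ := by group
      rwa [e] at h2
    · obtain ⟨k, hk, hc⟩ := (h1 K hK).2 hT
      refine ⟨k⁻¹, inv_mem hk, ?_⟩
      have e : k⁻¹⁻¹ * d⁻¹ = k * (k⁻¹ * d)⁻¹ * k⁻¹ := by group
      rw [e]
      exact (h.centralizer_normal hK).conj_mem _ (inv_mem hc) _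

theorem mem_DD {g : G} : g ∈ h.DD ↔ g ∈ normalizer (QQ S A T : Set G) ∧ ∀ K : Subgroup G, IsComponent K →
    (T K → ∀ s ∈ (S : Subgroup G) ⊓ K, g * s * g⁻¹ * s⁻¹ ∈ A) ∧
    (¬ T K → ∃ k ∈ A ⊓ K, k⁻¹ * g ∈ centralizer (K : Set G)) := Iff.rfl

theorem DD_le : h.DD ≤ normalizer (QQ S A T : Set G) := fun _ hg => hg.1

theorem DD_conj {g : G} (hg : g ∈ normalizer (QQ S A T : Set G)) {d : G} (hd : d ∈ h.DD) : g * d * g⁻¹ ∈ h.DD := by
  rw [mem_DD] at hd ⊢
  obtain ⟨hd0, h1⟩ := hd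
  refine ⟨mul_mem (mul_mem hg hd0) (inv_mem hg), fun K hK => ⟨fun hT s hs => ?_, fun hT => ?_⟩⟩
  · have hs' : g⁻¹ * s * g⁻¹⁻¹ ∈ (S : Subgroup G) ⊓ K := h.conj_SK hK hT (inv_mem hg) hs
    have h2 := (h1 K hK).1 hT _ hs'
    have h3 : d * (g⁻¹ * s * g⁻¹⁻¹) * d⁻¹ * (g⁻¹ * s * g⁻¹⁻¹)⁻¹ ∈ (S : Subgroup G) ⊓ K :=
      mul_mem (h.conj_SK hK hT hd0 hs') (inv_mem hs')
    have h4 := (h.conj_AK hK hg ⟨h2, h3.2⟩).1
    have e : g * (d * (g⁻¹ * s * g⁻¹⁻¹) * d⁻¹ * (g⁻¹ * s * g⁻¹⁻¹)⁻¹) * g⁻¹ = g * d * g⁻¹ * s * (g * d * g⁻¹)⁻¹ * s⁻¹ := by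
      group
    rwa [e] at h4
  · obtain ⟨k, hk, hc⟩ := (h1 K hK).2 hT
    refine ⟨g * k * g⁻¹, h.conj_AK hK hg hk, ?_⟩
    have e : (g * k * g⁻¹)⁻¹ * (g * d * g⁻¹) = g * (k⁻¹ * d) * g⁻¹ := by group
    rw [e]
    exact (h.centralizer_normal hK).conj_mem _ hc _

omit hpf in
theorem S_le : (S : Subgroup G) ≤ normalizer (QQ S A T : Set G) := by
  intro s hs
  have hc := isStronglyClosed_of_isNormal h.normal_QQ
  exact H280.StrongZJ.le_normalizer_of_stronglyClosed hc hs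

theorem A_le_DD : A ≤ h.DD := by
  intro a ha
  refine ⟨h.S_le (h.sit.closed.1 ha), fun K hK => ⟨fun _ s hs => ?_, fun hT => h.facG K hK hT a ha⟩⟩
  have h1 := h.sit.closed.2 a⁻¹ (A.inv_mem ha) s (mul_mem (mul_mem hs.1 (h.sit.closed.1 (A.inv_mem ha))) (inv_mem hs.1))
  have h2 := A.mul_mem ha h1
  have e : a * (s * a⁻¹ * s⁻¹) = a * s * a⁻¹ * s⁻¹ := by group
  rwa [e] at h2

/-- `p'`-elements of `D` centralize `Q`. -/
theorem centralize_of_coprime {x : G} (hx : x ∈ h.DD) (hxp : ¬ p ∣ orderOf x) :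
    x ∈ centralizer (QQ S A T : Set G) := by
  have key : QQ S A T ≤ centralizer ({x} : Set G) := by
    refine sSup_le ?_
    rintro _ ⟨K, hK, rfl⟩
    by_cases hT : T K
    · rw [BB_pos hT]
      -- coprime action
      have hn : zpowers x ≤ normalizer (((S : Subgroup G) ⊓ K : Subgroup G) : Set G) := by
        rw [zpowers_le]
        exact Transfer.FusionBasic.mem_normalizer_of_conj_mem fun s hs => h.conj_SK hK hT hx.1 hs
      have hPp : IsPGroup p ↥((S : Subgroup G) ⊓ K) := S.2.to_le inf_le_left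
      have hcop : (Nat.card (zpowers x)).Coprime (Nat.card ↥((S : Subgroup G) ⊓ K)) := by
        obtain ⟨n, hn⟩ := IsPGroup.iff_card.1 hPp
        rw [hn, Nat.card_zpowers]
        exact coprime_of_dvd_pow hxp n dvd_rfl
      have h1 := Cfsg.Agent.S0026.result (zpowers x) ((S : Subgroup G) ⊓ K) hn hcop (Or.inl inferInstance)
      have h2 : ⁅(S : Subgroup G) ⊓ K, zpowers x⁆ ≤ A ⊓ K := by
        rw [commutator_comm, commutator_le]
        intro y hy s hs
        have hyD : y ∈ h.DD := (zpowers_le.2 hx) hy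
        exact ⟨(hyD.2 K hK).1 hT s hs, (mul_mem (h.conj_SK hK hT hyD.1 hs) (inv_mem hs) :
          y * s * y⁻¹ * s⁻¹ ∈ (S : Subgroup G) ⊓ K).2⟩
      have h3 : ((S : Subgroup G) ⊓ K ⊓ centralizer (zpowers x : Set G)) ⊔ (A ⊓ K) = (S : Subgroup G) ⊓ K := by
        refine le_antisymm (sup_le inf_le_left (inf_le_inf_right _ h.sit.closed.1)) ?_
        conv_lhs => rw [← h1]
        exact sup_le (h2.trans le_sup_right) le_sup_left
      have h4 := h.gen K hK hT _ inf_le_left h3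
      intro s hs
      rw [← h4] at hs
      rw [mem_centralizer_singleton_iff]
      exact ((mem_centralizer_iff.1 hs.2) x (mem_zpowers x)).symm
    · rw [BB_neg hT]
      intro y hy
      obtain ⟨k, hk, hc⟩ := (hx.2 K hK).2 hT
      rw [mem_centralizer_singleton_iff]
      have h1 := (mem_centralizer_iff.1 hc) y hy.2
      have h2 := h.abG K hK hT k hk y hy
      calc y * x = (y * k) * (k⁻¹ * x) := by group
        _ = (k * y) * (k⁻¹ * x) := by rw [h2]
        _ = k * (y * (k⁻¹ * x)) := by group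
        _ = k * (k⁻¹ * x * y) := by rw [h1]
        _ = x * y := by group
  rw [mem_centralizer_iff]
  intro y hy
  exact mem_centralizer_singleton_iff.1 (key hy)

end Cfg

end Cfsg.Agent.H760.Str
end

-- part: H760/StrCtlA
section
/-!
# The main argument, second part (helper760, for S5305)

* `Sit.mem_pCore` : an element centralizing all components is in `O_p(G)`;
* `Cfg.commute_of_coprime`, `Cfg.exists_W` : the `p'`-elements of `D` form a subgroup `W` and `D = W (S ∩ D)`;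
* `Cfg.ctl_A` : `N_G(A)` controls strong fusion in `S`.
-/
set_option autoImplicit false

universe u

namespace Cfsg.Agent.H760.Str

open Subgroup Cfsg
open scoped commutatorElement

variable {G : Type u} [Group G] [Finite G] {p : ℕ} [hpf : Fact p.Prime]

/-- `S ∩ D` is Sylow in `D`, for `D` normal in `H ≥ S`. -/
theorem exists_sylow (S : Sylow p G) {H D : Subgroup G} (hSH : (S : Subgroup G) ≤ H) (hDH : D ≤ H)
    (hDn : ∀ g ∈ H, ∀ d ∈ D, g * d * g⁻¹ ∈ D) :
    ∃ P : Sylow p D, (P : Subgroup D) = (S : Subgroup G).subgroupOf D := by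
  have hn : (D.subgroupOf H).Normal := ⟨fun d hd g => hDn g g.2 d hd⟩
  have hSH' : ¬ p ∣ ((S : Subgroup G).subgroupOf H).index := by
    intro hd
    exact S.not_dvd_index (hd.trans (relIndex_dvd_index_of_le hSH))
  have hp : IsPGroup p ↥((S : Subgroup G).subgroupOf H) := S.2.comap_of_injective H.subtype H.subtype_injective
  have h1 : ¬ p ∣ ((S : Subgroup G).subgroupOf H).relIndex (D.subgroupOf H) :=
    H222.SylowJoin.not_dvd_relIndex_of_subnormal hp hSH' (Normal.isSubnormal hn)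
  rw [relIndex_subgroupOf hDH] at h1
  have h2 : IsPGroup p ↥((S : Subgroup G).subgroupOf D) := S.2.comap_of_injective D.subtype D.subtype_injective
  exact ⟨h2.toSylow h1, rfl⟩

/-- `exists_compl` for a subgroup `D` normal in `H`. -/
theorem compl_of (S : Sylow p G) {H D : Subgroup G} (C : Subgroup G) (hSH : (S : Subgroup G) ≤ H) (hDH : D ≤ H)
    (hDn : ∀ g ∈ H, ∀ d ∈ D, g * d * g⁻¹ ∈ D) (h1 : ∀ x ∈ D, ¬ p ∣ orderOf x → x ∈ C)
    (h2 : ∀ x ∈ D, ¬ p ∣ orderOf x → ∀ s ∈ (S : Subgroup G), s ∈ D → s ∈ C → x * s = s * x) :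
    ∃ W : Subgroup G, W ≤ D ∧ (∀ g ∈ H, ∀ w ∈ W, g * w * g⁻¹ ∈ W) ∧ ¬ p ∣ Nat.card W ∧
      (∀ x ∈ D, x ∈ W ↔ ¬ p ∣ orderOf x) ∧ ∀ d ∈ D, ∃ w ∈ W, ∃ s ∈ (S : Subgroup G) ⊓ D, d = w * s := by
  obtain ⟨P, hP⟩ := exists_sylow S hSH hDH hDn
  have hord : ∀ x : D, orderOf x = orderOf (x : G) := fun x => (Subgroup.orderOf_coe x).symm
  obtain ⟨W, hWn, hWp, hWm, hW⟩ := exists_compl P (C.subgroupOf D) (fun x hx => h1 x x.2 (by rwa [← hord])) (by
    intro x hx y hy
    have hy1 : (y : G) ∈ (S : Subgroup G) := by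
      have := hy.1
      rw [hP] at this
      exact this
    exact Subtype.ext (h2 x x.2 (by rwa [← hord]) y hy1 y.2 hy.2))
  have hmem : ∀ x ∈ D, x ∈ W.map D.subtype ↔ ¬ p ∣ orderOf x := by
    intro x hx
    have e : x ∈ W.map D.subtype ↔ (⟨x, hx⟩ : D) ∈ W := by
      constructor
      · rintro ⟨y, hy, hyx⟩
        have : y = ⟨x, hx⟩ := Subtype.ext hyx
        rwa [← this]
      · intro h
        exact ⟨_, h, rfl⟩
    rw [e, hWm, hord]
  refine ⟨W.map D.subtype, ?_, ?_, ?_, hmem, ?_⟩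
  · rintro _ ⟨x, -, rfl⟩
    exact x.2
  · rintro g hg _ ⟨x, hx, rfl⟩
    have hxp := (hWm x).1 hx
    have h3 := hDn g hg x x.2
    rw [show D.subtype x = (x : G) from rfl, hmem _ h3]
    rw [hord] at hxp
    have : orderOf (g * (x : G) * g⁻¹) = orderOf (x : G) :=
      orderOf_injective (MulAut.conj g).toMonoidHom (MulAut.conj g).injective (x : G)
    rwa [this]
  · rwa [Nat.card_congr (W.equivMapOfInjective D.subtype D.subtype_injective).toEquiv.symm]
  · intro d hd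
    obtain ⟨w, hw, s, hs, e⟩ := hW ⟨d, hd⟩
    refine ⟨w, ⟨w, hw, rfl⟩, s, ⟨?_, s.2⟩, congrArg Subtype.val e⟩
    rw [hP] at hs
    exact hs

/-- `ctl_of_mul` relative to a subgroup `H` controlling fusion. -/
theorem ctl_trans (S : Sylow p G) {Q H D W : Subgroup G} (hQ : Ctl (S : Subgroup G) Q) (hQH : normalizer (Q : Set G) ≤ H)
    (hSH : (S : Subgroup G) ≤ H) (hDH : D ≤ H) (hDn : ∀ g ∈ H, ∀ d ∈ D, g * d * g⁻¹ ∈ D)
    (hWH : W ≤ H) (hWn : ∀ g ∈ H, ∀ w ∈ W, g * w * g⁻¹ ∈ W) (hWp : ¬ p ∣ Nat.card W)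
    (hDW : ∀ d ∈ D, ∃ w ∈ W, ∃ s ∈ (S : Subgroup G) ⊓ D, d = w * s) :
    Ctl (S : Subgroup G) ((S : Subgroup G) ⊓ D) := by
  intro B hB g hg
  obtain ⟨n, hn, hnB⟩ := hQ B hB g hg
  have hnH := hQH hn
  let S' : Sylow p H := S.subtype hSH
  have hS' : (S' : Subgroup H) = (S : Subgroup G).subgroupOf H := rfl
  have h1 : (D.subgroupOf H).Normal := ⟨fun d hd g => hDn g g.2 d hd⟩
  have h2 : (W.subgroupOf H).Normal := ⟨fun d hd g => hWn g g.2 d hd⟩
  have h3 : ¬ p ∣ Nat.card (W.subgroupOf H) := by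
    rwa [Nat.card_congr (subgroupOfEquivOfLe hWH).toEquiv]
  have h4 := ctl_of_mul S' h1 h2 h3 (by
    intro d hd
    obtain ⟨w, hw, s, hs, e⟩ := hDW d hd
    exact ⟨⟨w, hWH hw⟩, hw, ⟨s, hDH hs.2⟩, ⟨hs.1, hs.2⟩, Subtype.ext e⟩)
  obtain ⟨m, hm, hmB⟩ := h4 (B.subgroupOf H) (fun x hx => hB hx) ⟨n, hnH⟩ (by
    intro x hx
    have h5 : n * (x : G) * n⁻¹ = g * x * g⁻¹ := hnB x hx
    show n * (x : G) * n⁻¹ ∈ (S : Subgroup G)
    rw [h5]
    exact hg _ hx)
  refine ⟨m, Transfer.FusionBasic.mem_normalizer_of_conj_mem fun q hq => ?_, fun x hx => ?_⟩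
  · exact (mem_normalizer_iff.1 hm ⟨q, hDH hq.2⟩).1 ⟨hq.1, hq.2⟩
  · have h5 := congrArg Subtype.val (hmB ⟨x, hSH (hB hx)⟩ hx)
    have h6 : (m : G) * x * (m : G)⁻¹ = n * x * n⁻¹ := h5
    rw [h6, hnB x hx]

variable {S : Sylow p G} {A : Subgroup G}

/-- an element centralizing all the components is in `O_p(G)`. -/
theorem Sit.mem_pCore (h : Sit S A) {y : G} (hy : ∀ K : Subgroup G, IsComponent K → y ∈ centralizer (K : Set G)) :
    y ∈ pCore p G := by
  have hF : fittingSubgroup G = pCore p G := SignalizersComponents.BalanceAux.fitting_eq_pCore p h.core_eq_bot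
  rw [← hF]
  refine TwoFusion.FStarControl.centralizer_genFitting_le_fitting ?_
  have h1 : generalizedFittingSubgroup G ≤ centralizer ({y} : Set G) := by
    refine sup_le (sSup_le fun K hK k hk => ?_) ?_
    · rw [mem_centralizer_singleton_iff]
      exact (mem_centralizer_iff.1 (hy K hK)) k hk
    · rw [hF]
      refine h.pCore_le_center.trans fun z hz => ?_
      rw [mem_centralizer_singleton_iff]
      exact ((mem_center_iff.1 hz) y).symm
  rw [mem_centralizer_iff]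
  intro z hz
  exact mem_centralizer_singleton_iff.1 (h1 hz)

variable {T : Subgroup G → Prop}

namespace Cfg

variable (h : Cfg S A T)
include h

/-- the `p'`-elements of `D` commute with `C_{S ∩ D}(Q)`. -/
theorem commute_of_coprime {x s : G} (hx : x ∈ h.DD) (hxp : ¬ p ∣ orderOf x) (hs : s ∈ (S : Subgroup G)) (hsD : s ∈ h.DD)
    (hsQ : s ∈ centralizer (QQ S A T : Set G)) : x * s = s * x := by
  have hxQ := h.centralize_of_coprime hx hxp
  have h1 : x * s * x⁻¹ * s⁻¹ ∈ pCore p G := by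
    refine h.sit.mem_pCore fun K hK => ?_
    have hn := h.centralizer_normal hK
    by_cases hT : T K
    · have hsK : ∀ q ∈ (S : Subgroup G) ⊓ K, s * q = q * s := fun q hq =>
        ((mem_centralizer_iff.1 hsQ) q (BB_le_QQ hK (by rw [BB_pos hT]; exact hq))).symm
      obtain ⟨k, c, hk, hc, rfl⟩ := h.split K hK hT s hs hsK
      have hxk : k * x = x * k := (mem_centralizer_iff.1 hxQ) k (BB_le_QQ hK (by rw [BB_pos hT]; exact hk))
      have e : x * (k * c) * x⁻¹ * (k * c)⁻¹ = k * ((x * c * x⁻¹) * c⁻¹) * k⁻¹ := by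
        calc x * (k * c) * x⁻¹ * (k * c)⁻¹ = (x * k) * c * x⁻¹ * c⁻¹ * k⁻¹ := by group
          _ = (k * x) * c * x⁻¹ * c⁻¹ * k⁻¹ := by rw [hxk]
          _ = k * ((x * c * x⁻¹) * c⁻¹) * k⁻¹ := by group
      rw [e]
      exact hn.conj_mem _ (mul_mem (hn.conj_mem _ hc _) (inv_mem hc)) _
    · obtain ⟨k, hk, hc⟩ := (hx.2 K hK).2 hT
      obtain ⟨k', hk', hc'⟩ := (hsD.2 K hK).2 hT
      have hkk := h.abG K hK hT k hk k' hk'
      -- x = k c, s = k' c'
      set c := k⁻¹ * x with hcdef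
      set c' := k'⁻¹ * s with hcdef'
      have ex : x = k * c := by rw [hcdef]; group
      have es : s = k' * c' := by rw [hcdef']; group
      have c1 : c * k' = k' * c := ((mem_centralizer_iff.1 hc) k' hk'.2).symm
      have c2 : c' * k = k * c' := ((mem_centralizer_iff.1 hc') k hk.2).symm
      have c3 : c' * k' = k' * c' := ((mem_centralizer_iff.1 hc') k' hk'.2).symm
      have c4 : c * k = k * c := ((mem_centralizer_iff.1 hc) k hk.2).symm
      have e : x * s * x⁻¹ * s⁻¹ = c * c' * c⁻¹ * c'⁻¹ := by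
        have e1 : x * s = (k' * k) * (c * c') := by
          rw [ex, es]
          calc k * c * (k' * c') = k * (c * k') * c' := by group
            _ = k * (k' * c) * c' := by rw [c1]
            _ = (k * k') * (c * c') := by group
            _ = (k' * k) * (c * c') := by rw [hkk]
        have e2 : s * x = (k' * k) * (c' * c) := by
          rw [ex, es]
          calc k' * c' * (k * c) = k' * (c' * k) * c := by group
            _ = k' * (k * c') * c := by rw [c2]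
            _ = (k' * k) * (c' * c) := by group
        have e3 : x * s * x⁻¹ * s⁻¹ = (x * s) * (s * x)⁻¹ := by group
        have e4 : c * c' * c⁻¹ * c'⁻¹ ∈ centralizer (K : Set G) :=
          mul_mem (mul_mem (mul_mem hc hc') (inv_mem hc)) (inv_mem hc')
        have e5 : (k' * k) * (c * c' * c⁻¹ * c'⁻¹) * (k' * k)⁻¹ = c * c' * c⁻¹ * c'⁻¹ := by
          have := (mem_centralizer_iff.1 e4) (k' * k) (mul_mem hk'.2 hk.2)
          rw [this]; group
        rw [e3, e1, e2]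
        calc (k' * k) * (c * c') * ((k' * k) * (c' * c))⁻¹ = (k' * k) * (c * c' * c⁻¹ * c'⁻¹) * (k' * k)⁻¹ := by group
          _ = c * c' * c⁻¹ * c'⁻¹ := e5
      rw [e]
      exact mul_mem (mul_mem (mul_mem hc hc') (inv_mem hc)) (inv_mem hc')
  -- `y = [x,s]` is central of `p`-power order, hence trivial
  set y := x * s * x⁻¹ * s⁻¹ with hy
  have hyc : ∀ g : G, g * y = y * g := fun g => (mem_center_iff.1 (h.sit.pCore_le_center h1)) g
  have h2 : x * s * x⁻¹ = y * s := by rw [hy]; group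
  have h3 : ∀ n : ℕ, x ^ n * s * (x ^ n)⁻¹ = y ^ n * s := by
    intro n
    induction n with
    | zero => simp
    | succ n ih =>
      have hyn : x * y ^ n = y ^ n * x := ((show Commute x y from hyc x).pow_right n)
      calc x ^ (n + 1) * s * (x ^ (n + 1))⁻¹ = x * (x ^ n * s * (x ^ n)⁻¹) * x⁻¹ := by rw [pow_succ']; group
        _ = x * (y ^ n * s) * x⁻¹ := by rw [ih]
        _ = (x * y ^ n) * s * x⁻¹ := by group
        _ = y ^ n * (x * s * x⁻¹) := by rw [hyn]; group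
        _ = y ^ (n + 1) * s := by rw [h2, pow_succ]; group
  have h4 : y ^ orderOf x = 1 := by
    have := h3 (orderOf x)
    rw [pow_orderOf_eq_one, one_mul, inv_one, mul_one] at this
    exact (mul_eq_right.1 this.symm)
  obtain ⟨n, hn⟩ := (Lib.Cores.pCore_isPGroup (G := G) p) ⟨y, h1⟩
  have hn' : y ^ p ^ n = 1 := by simpa using congrArg Subtype.val hn
  have h5 : y = 1 := by
    have hc : Nat.Coprime (orderOf x) (p ^ n) := coprime_of_dvd_pow hxp n dvd_rfl
    have := Nat.dvd_gcd (orderOf_dvd_of_pow_eq_one h4) (orderOf_dvd_of_pow_eq_one hn')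
    rw [hc.gcd_eq_one, Nat.dvd_one, orderOf_eq_one_iff] at this
    exact this
  rw [h5, one_mul] at h2
  calc x * s = (x * s * x⁻¹) * x := by group
    _ = s * x := by rw [h2]


/-- the data `W` -/
theorem exists_W : ∃ W : Subgroup G, W ≤ h.DD ∧ (∀ g ∈ normalizer (QQ S A T : Set G), ∀ w ∈ W, g * w * g⁻¹ ∈ W) ∧
    ¬ p ∣ Nat.card W ∧ (∀ x ∈ h.DD, x ∈ W ↔ ¬ p ∣ orderOf x) ∧
    ∀ d ∈ h.DD, ∃ w ∈ W, ∃ s ∈ (S : Subgroup G) ⊓ h.DD, d = w * s :=
  compl_of S (centralizer (QQ S A T : Set G)) h.S_le h.DD_le (fun _ hg _ hd => h.DD_conj hg hd)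
    (fun _ hx hxp => h.centralize_of_coprime hx hxp) (fun _ hx hxp _ hs hsD hsC => h.commute_of_coprime hx hxp hs hsD hsC)

/-- **`N_G(A)` controls strong fusion in `S`.** -/
theorem ctl_A : Ctl (S : Subgroup G) A := by
  obtain ⟨W, hWD, hWn, hWp, -, hDW⟩ := h.exists_W
  have h1 := ctl_trans S (ctl_of_isNormal h.normal_QQ) le_rfl h.S_le h.DD_le (fun _ hg _ hd => h.DD_conj hg hd)
    (hWD.trans h.DD_le) hWn hWp hDW
  intro B hB g hg
  obtain ⟨n, hn, hnB⟩ := h1 B hB g hg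
  refine ⟨n, Transfer.FusionBasic.mem_normalizer_of_conj_mem fun a ha => ?_, hnB⟩
  exact h.sit.closed.2 a ha n ((mem_normalizer_iff.1 hn a).1 ⟨h.sit.closed.1 ha, h.A_le_DD ha⟩).1

end Cfg

end Cfsg.Agent.H760.Str
end

-- part: H760/StrCtlS
section
/-!
# The main argument, third part (helper760, for S5305)

* `inf_sSup` : `S ∩ ⟨𝒦⟩ = ⟨S ∩ K : K ∈ 𝒦⟩` for a set `𝒦` of normal subgroups;
* `Cfg.ctl_S` : if all components satisfy `T` then `N_G(S)` controls strong fusion in `S`.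
-/
set_option autoImplicit false

universe u

namespace Cfsg.Agent.H760.Str

open Subgroup Cfsg
open scoped commutatorElement

variable {G : Type u} [Group G] [Finite G] {p : ℕ} [hpf : Fact p.Prime]

theorem inf_sSup (S : Sylow p G) {𝒦 : Set (Subgroup G)} (h : ∀ K ∈ 𝒦, K.Normal) :
    (S : Subgroup G) ⊓ sSup 𝒦 ≤ sSup {B | ∃ K ∈ 𝒦, B = (S : Subgroup G) ⊓ K} := by
  classical
  have key : ∀ s : Set (Subgroup G), s.Finite → s ⊆ 𝒦 →
      (sSup s).Normal ∧ (S : Subgroup G) ⊓ sSup s ≤ sSup {B | ∃ K ∈ 𝒦, B = (S : Subgroup G) ⊓ K} := by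
    intro s hs
    induction s, hs using Set.Finite.induction_on with
    | empty =>
      intro _
      rw [sSup_empty]
      exact ⟨inferInstance, inf_le_right.trans bot_le⟩
    | @insert K s _ _ ih =>
      intro hsub
      obtain ⟨h1, h2⟩ := ih fun x hx => hsub (Set.mem_insert_of_mem _ hx)
      have h3 : K.Normal := h K (hsub (Set.mem_insert _ _))
      rw [sSup_insert]
      refine ⟨inferInstance, ?_⟩
      rw [H222.SylowJoin.sylow_inf_sup S (Normal.isSubnormal h3) (Normal.isSubnormal h1)]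
      exact sup_le (le_sSup ⟨K, hsub (Set.mem_insert _ _), rfl⟩) h2
  exact (key 𝒦 (Set.toFinite _) subset_rfl).2

variable {S : Sylow p G} {A : Subgroup G} {T : Subgroup G → Prop}

namespace Cfg

variable (h : Cfg S A T)
include h

/-- **`N_G(S)` controls strong fusion in `S`** if `T` holds for all components. -/
theorem ctl_S (hall : ∀ K : Subgroup G, IsComponent K → T K) : Ctl (S : Subgroup G) (S : Subgroup G) := by
  obtain ⟨Q, hQ⟩ : ∃ Q, Q = QQ S A T := ⟨_, rfl⟩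
  obtain ⟨H, hH⟩ : ∃ H, H = normalizer (QQ S A T : Set G) := ⟨_, rfl⟩
  obtain ⟨D, hD⟩ : ∃ D, D = h.DD := ⟨_, rfl⟩
  obtain ⟨E, hE⟩ : ∃ E, E = layer G := ⟨_, rfl⟩
  have hSH : (S : Subgroup G) ≤ H := by rw [hH]; exact h.S_le
  have hDH : D ≤ H := by rw [hD, hH]; exact h.DD_le
  have hDn : ∀ g ∈ H, ∀ d ∈ D, g * d * g⁻¹ ∈ D := by
    rw [hD, hH]; exact fun _ hg _ hd => h.DD_conj hg hd
  have hQS : Q ≤ (S : Subgroup G) := by rw [hQ]; exact h.QQ_le
  have hQH : Q ≤ H := hQS.trans hSH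
  have hQn : ∀ g ∈ H, ∀ d ∈ Q, g * d * g⁻¹ ∈ Q := by
    rw [hQ, hH]; exact fun g hg d hd => (mem_normalizer_iff.1 hg d).1 hd
  have hEn : E.Normal := by rw [hE]; exact SignalizersComponents.Components.layer_normal G
  have hSE : (S : Subgroup G) ⊓ E = Q := by
    refine le_antisymm ?_ (le_inf hQS ?_)
    · rw [hE, hQ]
      refine (inf_sSup S fun K hK => h.sit.comp_normal hK).trans (sSup_le ?_)
      rintro _ ⟨K, hK, rfl⟩
      exact (BB_pos (hall K hK)).ge.trans (BB_le_QQ hK)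
    · rw [hE, hQ]
      refine sSup_le ?_
      rintro _ ⟨K, hK, rfl⟩
      exact (BB_le K).trans (le_sSup hK)
  -- `D₂ = D Q`
  obtain ⟨D2, hD2⟩ : ∃ D2, D2 = D ⊔ Q := ⟨_, rfl⟩
  have hD2H : D2 ≤ H := by rw [hD2]; exact sup_le hDH hQH
  have hD2mem : ∀ x ∈ D2, ∃ d ∈ D, ∃ q ∈ Q, x = d * q := by
    intro x hx
    have hle : Q ≤ normalizer (D : Set G) := fun q hq =>
      Transfer.FusionBasic.mem_normalizer_of_conj_mem fun d hd => hDn q (hQH hq) d hd
    rw [hD2, sup_comm] at hx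
    have hx' : x ∈ ((D ⊔ Q : Subgroup G) : Set G) := by rw [sup_comm]; exact hx
    rw [Subgroup.coe_mul_of_right_le_normalizer_left D Q hle] at hx'
    obtain ⟨d, hd, q, hq, rfl⟩ := hx'
    exact ⟨d, hd, q, hq, rfl⟩
  have hD2n : ∀ g ∈ H, ∀ d ∈ D2, g * d * g⁻¹ ∈ D2 := by
    intro g hg x hx
    obtain ⟨d, hd, q, hq, rfl⟩ := hD2mem x hx
    have e : g * (d * q) * g⁻¹ = (g * d * g⁻¹) * (g * q * g⁻¹) := by group
    rw [e, hD2]
    exact mul_mem_sup (hDn g hg d hd) (hQn g hg q hq)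
  -- `E D₂ = G`
  have hED : E ⊔ D2 = ⊤ := by
    refine h.sit.top_of_le ?_ ?_
    · have hFr : ∀ g : G, ∃ a ∈ H, ∃ k ∈ E, g = a * k := by
        intro g
        obtain ⟨a, ha, k, hk, e⟩ := frattini_factor S hEn g
        refine ⟨a, ?_, k, hk, e⟩
        rw [hSE, hQ] at ha
        rw [hH]
        exact ha
      have hmemED : ∀ x ∈ E ⊔ D2, ∃ e ∈ E, ∃ d ∈ D2, x = e * d := fun x hx => by
        obtain ⟨e, he, d, hd, rfl⟩ := Subgroup.mem_sup_of_normal_left.1 hx
        exact ⟨e, he, d, hd, rfl⟩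
      refine ⟨fun x hx g => ?_⟩
      obtain ⟨a, ha, k, hk, rfl⟩ := hFr g
      have h1 : k * x * k⁻¹ ∈ E ⊔ D2 := by
        have hk' : k ∈ E ⊔ D2 := le_sup_left (a := E) hk
        exact mul_mem (mul_mem hk' hx) (inv_mem hk')
      obtain ⟨e, he, d, hd, h2⟩ := hmemED _ h1
      have e1 : a * k * x * (a * k)⁻¹ = (a * e * a⁻¹) * (a * d * a⁻¹) := by
        calc a * k * x * (a * k)⁻¹ = a * (k * x * k⁻¹) * a⁻¹ := by group
          _ = a * (e * d) * a⁻¹ := by rw [h2]
          _ = (a * e * a⁻¹) * (a * d * a⁻¹) := by group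
      rw [e1]
      exact mul_mem_sup (hEn.conj_mem e he a) (hD2n a ha d hd)
    · refine h.A_le_DD.trans ?_
      rw [← hD, hD2]
      exact le_sup_left.trans le_sup_right
  -- `p ∤ |H ∩ E : Q|`
  have hidx : ¬ p ∣ Q.relIndex (H ⊓ E) := by
    have h1 : ¬ p ∣ (S : Subgroup G).relIndex E :=
      H222.SylowJoin.not_dvd_relIndex_of_subnormal S.2 S.not_dvd_index (Normal.isSubnormal hEn)
    rw [← inf_relIndex_right, hSE] at h1
    have hQE : Q ≤ H ⊓ E := le_inf hQH (by rw [← hSE]; exact inf_le_right)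
    have h2 : Q.relIndex (H ⊓ E) * (H ⊓ E).relIndex E = Q.relIndex E := relIndex_mul_relIndex _ _ _ hQE inf_le_right
    intro hd
    exact h1 (hd.trans ⟨_, h2.symm⟩)
  -- `S ≤ D₂`
  have hSD2 : (S : Subgroup G) ≤ D2 := by
    intro s hs
    have hsE : s ∈ E ⊔ D2 := by rw [hED]; exact mem_top s
    obtain ⟨e, he, d, hd, hed⟩ := Subgroup.mem_sup_of_normal_left.1 hsE
    have heH : e ∈ H := by
      have : e = s * d⁻¹ := by rw [← hed]; group
      rw [this]
      exact mul_mem (hSH hs) (inv_mem (hD2H hd))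
    have hn : (D2.subgroupOf H).Normal := ⟨fun d hd g => hD2n g g.2 d hd⟩
    have hnQ : (Q.subgroupOf (H ⊓ E)).Normal := ⟨fun d hd g => hQn g g.2.1 d hd⟩
    have h1 : e ^ Q.relIndex (H ⊓ E) ∈ Q := by
      have := Subgroup.pow_index_mem (Q.subgroupOf (H ⊓ E)) ⟨e, heH, he⟩
      exact this
    set m := Q.relIndex (H ⊓ E) with hm
    have h2 : (QuotientGroup.mk' (D2.subgroupOf H) ⟨s, hSH hs⟩) = QuotientGroup.mk' (D2.subgroupOf H) ⟨e, heH⟩ := by
      refine QuotientGroup.eq.2 ?_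
      show (s : G)⁻¹ * e ∈ D2
      have e3 : s⁻¹ * e = d⁻¹ := by
        rw [← hed]
        group
      rw [e3]
      exact inv_mem hd
    set sb := QuotientGroup.mk' (D2.subgroupOf H) ⟨s, hSH hs⟩ with hsb
    have h3 : sb ^ m = 1 := by
      rw [h2, ← map_pow]
      refine (QuotientGroup.eq_one_iff _).2 ?_
      show e ^ m ∈ D2
      rw [hD2]
      exact mem_sup_right h1
    obtain ⟨n, hn'⟩ := S.2 ⟨s, hs⟩
    have h4 : sb ^ p ^ n = 1 := by
      rw [hsb, ← map_pow]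
      have h6 : s ^ p ^ n = 1 := by simpa using congrArg Subtype.val hn'
      have : (⟨s, hSH hs⟩ : H) ^ p ^ n = 1 := Subtype.ext h6
      rw [this, map_one]
    have h5 : sb = 1 := by
      have hc : Nat.Coprime m (p ^ n) := coprime_of_dvd_pow hidx n dvd_rfl
      have := Nat.dvd_gcd (orderOf_dvd_of_pow_eq_one h3) (orderOf_dvd_of_pow_eq_one h4)
      rw [hc.gcd_eq_one, Nat.dvd_one, orderOf_eq_one_iff] at this
      exact this
    have h7 : (⟨s, hSH hs⟩ : H) ∈ D2.subgroupOf H := (QuotientGroup.eq_one_iff _).1 h5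
    exact h7
  obtain ⟨W, hWD, hWn, hWp, -, hDW⟩ := h.exists_W
  have h1 := ctl_trans S (ctl_of_isNormal h.normal_QQ) (by rw [hH]) hSH hD2H hD2n (hWD.trans (by rw [← hD]; exact hDH))
    (by rw [hH]; exact hWn) hWp (by
      intro x hx
      obtain ⟨d, hd, q, hq, rfl⟩ := hD2mem x hx
      obtain ⟨w, hw, s, hs, rfl⟩ := hDW d (by rw [← hD]; exact hd)
      refine ⟨w, hw, s * q, ⟨mul_mem hs.1 (hQS hq), ?_⟩, by group⟩
      rw [hD2]
      exact mul_mem_sup (by rw [hD]; exact hs.2) hq)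
  rwa [inf_eq_left.2 hSD2] at h1

end Cfg

end Cfsg.Agent.H760.Str
end

-- part: H760/StrRow
section
/-!
# The components of `G` in the situation `Sit S A` (helper760, for S5305)

`InnerHyp p` is S1937, `ZStarHyp p` is S1938, `RowFF p` the row hypothesis.

* `Sit.inf_comp_ne_bot` : `A ∩ K ≠ 1` for the components `K`;
* `Sit.rows` : the row hypothesis applies to `K / Z(K)`, `(S ∩ K)Z(K)/Z(K)`, `(A ∩ K)Z(K)/Z(K)`;
* `Sit.typeA` : in the first case `S ∩ K` is normal in `F_S(G)` and `A ∩ K` consists of nongenerators of `S ∩ K`.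
-/
set_option autoImplicit false

universe u

namespace Cfsg.Agent.H760.Str

open Subgroup Cfsg Cfsg.Agent.H792.MinClosed
open scoped commutatorElement

/-- An element of `p`-power order normalizing a group `X` of order `p` centralizes it. -/
theorem commute_of_card {G : Type*} [Group G] {p : ℕ} [hpf : Fact p.Prime] {X : Subgroup G} (hX : Nat.card X = p) {s : G}
    (hs : ∃ n : ℕ, s ^ p ^ n = 1) (hsX : ∀ x ∈ X, s * x * s⁻¹ ∈ X) {x : G} (hx : x ∈ X) : s * x = x * s := by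
  by_cases hx1 : x = 1
  · rw [hx1, one_mul, mul_one]
  have hfin : Finite X := Nat.finite_of_card_ne_zero (by rw [hX]; exact hpf.out.ne_zero)
  have hox : orderOf x = p := by
    have h1 : orderOf (⟨x, hx⟩ : X) ∣ p := hX ▸ orderOf_dvd_natCard _
    rw [Subgroup.orderOf_mk] at h1
    rcases (Nat.dvd_prime hpf.out).1 h1 with h | h
    · exact absurd (orderOf_eq_one_iff.1 h) hx1
    · exact h
  have hzX : zpowers x = X := by
    refine Subgroup.eq_of_le_of_card_ge (zpowers_le.2 hx) ?_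
    rw [Nat.card_zpowers, hox, hX]
  obtain ⟨k, hk⟩ : ∃ k : ℕ, x ^ k = s * x * s⁻¹ := by
    have h1 : s * x * s⁻¹ ∈ zpowers x := by rw [hzX]; exact hsX x hx
    have hfo : IsOfFinOrder x := by
      rw [← orderOf_pos_iff, hox]; exact hpf.out.pos
    exact (hfo.mem_powers_iff_mem_zpowers.2 h1)
  have hpow : ∀ n : ℕ, s ^ n * x * (s ^ n)⁻¹ = x ^ k ^ n := by
    intro n
    induction n with
    | zero => simp
    | succ n ih =>
      calc s ^ (n + 1) * x * (s ^ (n + 1))⁻¹ = s * (s ^ n * x * (s ^ n)⁻¹) * s⁻¹ := by rw [pow_succ']; group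
        _ = s * (x ^ k ^ n) * s⁻¹ := by rw [ih]
        _ = (s * x * s⁻¹) ^ k ^ n := by rw [conj_pow]
        _ = x ^ k ^ (n + 1) := by rw [← hk, ← pow_mul, pow_succ']
  obtain ⟨n, hn⟩ := hs
  have h1 := hpow (p ^ n)
  rw [hn, one_mul, inv_one, mul_one] at h1
  have h2 : k ^ p ^ n ≡ 1 [MOD p] := by
    have h5 : k ^ p ^ n ≡ 1 [MOD orderOf x] := pow_eq_pow_iff_modEq.1 (by rw [pow_one]; exact h1.symm)
    rwa [hox] at h5
  have h3 : k ≡ 1 [MOD p] := by
    rw [← ZMod.natCast_eq_natCast_iff] at h2 ⊢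
    push_cast at h2 ⊢
    rwa [ZMod.pow_card_pow] at h2
  have h4 : x ^ k = x := by
    conv_rhs => rw [← pow_one x]
    rw [pow_eq_pow_iff_modEq, hox]
    exact h3
  rw [h4] at hk
  calc s * x = (s * x * s⁻¹) * s := by group
    _ = x * s := by rw [← hk]

/-- the `Z*_p`-theorem (S1938) -/
def ZStarHyp (p : ℕ) : Prop :=
  ∀ (K : Type u) [Group K] [Finite K] (P : Sylow p K) (x : K), x ∈ (P : Subgroup K) →
    (∀ g : K, g * x * g⁻¹ ∈ (P : Subgroup K) → g * x * g⁻¹ = x) → InZStar p x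

variable {G : Type u} [Group G] [Finite G] {p : ℕ} [hpf : Fact p.Prime]
variable {S : Sylow p G} {A : Subgroup G}

omit hpf [Finite G] in
theorem not_le_center {K : Subgroup G} (hK : IsComponent K) : ¬ K ≤ centralizer (K : Set G) := by
  intro hc
  refine SignalizersComponents.Components.quasisimple_not_isMulCommutative hK.2 ?_
  refine ⟨⟨fun a b => Subtype.ext ?_⟩⟩
  exact ((mem_centralizer_iff.1 (hc a.2)) b b.2).symm

omit [Finite G] hpf in
/-- `A` centralizes `S ∩ K` if `A ∩ K = 1`. -/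
theorem Sit.commute_of_inf_eq_bot (h : Sit S A) {K : Subgroup G} (hKn : K.Normal) (hbot : A ⊓ K = ⊥) {a s : G} (ha : a ∈ A)
    (hs : s ∈ (S : Subgroup G) ⊓ K) : a * s = s * a := by
  have h1 : s * a⁻¹ * s⁻¹ ∈ A :=
    h.closed.2 a⁻¹ (A.inv_mem ha) s (mul_mem (mul_mem hs.1 (h.closed.1 (A.inv_mem ha))) (inv_mem hs.1))
  have h2 : a * s * a⁻¹ * s⁻¹ ∈ A ⊓ K := by
    constructor
    · have := A.mul_mem ha h1
      have e : a * (s * a⁻¹ * s⁻¹) = a * s * a⁻¹ * s⁻¹ := by group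
      rwa [e] at this
    · exact K.mul_mem (hKn.conj_mem s hs.2 a) (K.inv_mem hs.2)
  rw [hbot, mem_bot] at h2
  calc a * s = (a * s * a⁻¹ * s⁻¹) * (s * a) := by group
    _ = s * a := by rw [h2, one_mul]

/-- `A ∩ K ≠ 1` for the components `K`. -/
theorem Sit.inf_comp_ne_bot (hI : InnerHyp.{u} p) (hZ : ZStarHyp.{u} p) (h : Sit S A) {K : Subgroup G} (hK : IsComponent K) :
    A ⊓ K ≠ ⊥ := by
  intro hbot
  have hKn := h.comp_normal hK
  have hle : A ≤ centralizer (K : Set G) := by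
    intro a ha
    obtain ⟨k, c, hk, hcS, hcK, hakc, hkc⟩ := exists_split hI h.core_eq_bot hK S (h.closed.1 ha)
      (fun q hq => h.commute_of_inf_eq_bot hKn hbot ha hq)
    -- `k` is isolated in `S ∩ K`
    have hiso : ∀ g ∈ K, g * k * g⁻¹ ∈ (S : Subgroup G) → g * k * g⁻¹ = k := by
      intro g hg hgk
      have h3 : g⁻¹ * c = c * g⁻¹ := (mem_centralizer_iff.1 hcK) _ (K.inv_mem hg)
      have h2 : g * a * g⁻¹ = g * k * g⁻¹ * c := by
        rw [hakc]
        calc g * (k * c) * g⁻¹ = g * k * (c * g⁻¹) := by group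
          _ = g * k * (g⁻¹ * c) := by rw [h3]
          _ = g * k * g⁻¹ * c := by group
      have h4 : g * a * g⁻¹ ∈ A := h.closed.2 a ha g (by rw [h2]; exact mul_mem hgk hcS)
      have h5 : g * a * g⁻¹ * a⁻¹ ∈ A ⊓ K := by
        refine ⟨A.mul_mem h4 (A.inv_mem ha), ?_⟩
        have e : g * a * g⁻¹ * a⁻¹ = g * (a * g⁻¹ * a⁻¹) := by group
        rw [e]
        exact K.mul_mem hg (hKn.conj_mem _ (K.inv_mem hg) a)
      rw [hbot, mem_bot] at h5
      have h6 : g * a * g⁻¹ = a := by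
        calc g * a * g⁻¹ = (g * a * g⁻¹ * a⁻¹) * a := by group
          _ = a := by rw [h5, one_mul]
      rw [h2, hakc] at h6
      exact mul_right_cancel h6
    have hQK : ¬ p ∣ (S : Subgroup G).relIndex K :=
      H222.SylowJoin.not_dvd_relIndex_of_subnormal S.2 S.not_dvd_index hK.1
    have hQp : IsPGroup p ↥((S : Subgroup G).subgroupOf K) := S.2.comap_of_injective K.subtype K.subtype_injective
    let P : Sylow p K := hQp.toSylow hQK
    have hz := hZ K P ⟨k, hk.2⟩ hk.1 (by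
      intro g hg
      exact Subtype.ext (hiso g g.2 hg))
    have hO : pPrimeCore p K = ⊥ := H12.CompQ.comp_pPrimeCore_eq_bot h.core_eq_bot hK.1
    have hkc : k ∈ centralizer (K : Set G) := by
      rw [mem_centralizer_iff]
      intro g hg
      have h7 := hz ⟨g, hg⟩
      rw [hO, mem_bot] at h7
      have h8 : g * k * g⁻¹ * k⁻¹ = 1 := congrArg Subtype.val h7
      calc g * k = (g * k * g⁻¹ * k⁻¹) * (k * g) := by group
        _ = k * g := by rw [h8, one_mul]
    rw [hakc]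
    exact mul_mem hkc hcK
  have htop : centralizer (K : Set G) = ⊤ := h.top_of_le inferInstance hle
  exact not_le_center hK (by rw [htop]; exact le_top)

/-! ### The rows -/

/-- `S` is normal in the fusion system and `T` consists of nongenerators -/
def RowA {L : Type*} [Group L] (P T : Subgroup L) : Prop :=
  (groupFusionSystem P).IsNormal P ∧ ∀ X ≤ P, X ⊔ T = P → X = P

/-- `T = Z(P)` has order `p`, `P ≤ J ≤ C(T)` for a perfect group `J` -/
def RowB (p : ℕ) {L : Type*} [Group L] (P T : Subgroup L) : Prop :=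
  T = P ⊓ centralizer (P : Set L) ∧ Nat.card T = p ∧ ∃ J : Subgroup L, ⁅J, J⁆ = J ∧ P ≤ J ∧ J ≤ centralizer (T : Set L)

/-- the row hypothesis -/
def RowFF (p : ℕ) : Prop :=
  ∀ (L : Type u) [Group L] [Finite L] [IsSimpleGroup L], ¬ IsMulCommutative L → ∀ (P : Sylow p L) (T : Subgroup L),
    T ≠ ⊥ → T < (P : Subgroup L) → IsStronglyClosed T (P : Subgroup L) → RowA (P : Subgroup L) T ∨ RowB p (P : Subgroup L) T

/-- the Sylow subgroup of a component modulo the centre -/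
def PB (S : Subgroup G) (K : Subgroup G) : Subgroup (K ⧸ center K) := (S.subgroupOf K).map (QuotientGroup.mk' (center K))

theorem Sit.center_le (h : Sit S A) {K : Subgroup G} (hK : IsComponent K) {z : G} (hz : z ∈ K) (hzc : z ∈ centralizer (K : Set G)) :
    z ∈ pCore p G :=
  SignalizersComponents.BalanceAux.center_component_le_pCore p h.core_eq_bot hK ⟨hz, hzc⟩

theorem exists_PB (S : Sylow p G) {K : Subgroup G} (hK : IsComponent K) :
    ∃ P : Sylow p (K ⧸ center K), (P : Subgroup (K ⧸ center K)) = PB (S : Subgroup G) K := by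
  have hQK : ¬ p ∣ (S : Subgroup G).relIndex K :=
    H222.SylowJoin.not_dvd_relIndex_of_subnormal S.2 S.not_dvd_index hK.1
  have hQp : IsPGroup p ↥((S : Subgroup G).subgroupOf K) := S.2.comap_of_injective K.subtype K.subtype_injective
  let P : Sylow p K := hQp.toSylow hQK
  exact ⟨P.mapSurjective (QuotientGroup.mk'_surjective (center K)), rfl⟩

omit hpf [Finite G] in
theorem mem_center_of {K : Subgroup G} {x : K} : x ∈ center K ↔ (x : G) ∈ centralizer (K : Set G) := by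
  rw [mem_center_iff, mem_centralizer_iff]
  constructor
  · intro h y hy
    exact congrArg Subtype.val (h ⟨y, hy⟩)
  · intro h y
    exact Subtype.ext (h y y.2)

omit hpf [Finite G] in
/-- membership in `PB`, when the centre is in `B`. -/
theorem mem_PB_iff {B K : Subgroup G} (hB : ∀ z ∈ K, z ∈ centralizer (K : Set G) → z ∈ B) (x : K) :
    QuotientGroup.mk' (center K) x ∈ PB B K ↔ (x : G) ∈ B := by
  constructor
  · rintro ⟨y, hy, e⟩
    have h2 : y⁻¹ * x ∈ center K := QuotientGroup.eq.mp e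
    have h3 : (y : G) * ((y⁻¹ * x : K) : G) ∈ B := B.mul_mem hy (hB _ (y⁻¹ * x).2 (mem_center_of.1 h2))
    have e2 : (y : G) * ((y⁻¹ * x : K) : G) = x := by push_cast; group
    rwa [e2] at h3
  · intro h
    exact ⟨x, h, rfl⟩

/-- the row hypothesis in general form -/
theorem Sit.row_of (hI : InnerHyp.{u} p) (hZ : ZStarHyp.{u} p) (h : Sit S A) {K : Subgroup G} (hK : IsComponent K)
    {R : ∀ (L : Type u) [Group L], Subgroup L → Subgroup L → Prop}
    (hR : ∀ (L : Type u) [Group L] [Finite L] [IsSimpleGroup L], ¬ IsMulCommutative L → ∀ (P : Sylow p L) (T : Subgroup L),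
      T ≠ ⊥ → T < (P : Subgroup L) → IsStronglyClosed T (P : Subgroup L) → R L (P : Subgroup L) T) :
    R (K ⧸ center K) (PB (S : Subgroup G) K) (PB A K) := by
  obtain ⟨P, hP⟩ := exists_PB S hK
  have hKn := h.comp_normal hK
  have hZS : ∀ z ∈ K, z ∈ centralizer (K : Set G) → z ∈ (S : Subgroup G) := fun z hz hzc =>
    Lib.Cores.pCore_le_sylow S (h.center_le hK hz hzc)
  have hsimp : IsSimpleGroup (K ⧸ center K) := hK.2.2
  have hnc : ¬ IsMulCommutative (K ⧸ center K) := by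
    intro hc
    have h1 : _root_.commutator K ≤ center K := (Normal.quotient_commutative_iff_commutator_le).1 hc
    have h2 : _root_.commutator K = ⊤ := hK.2.1.1
    rw [h2] at h1
    obtain ⟨x, hx⟩ := exists_ne (1 : K ⧸ center K)
    obtain ⟨y, rfl⟩ := QuotientGroup.mk'_surjective (center K) x
    exact hx ((QuotientGroup.eq_one_iff y).2 (h1 (mem_top y)))
  rw [← hP]
  refine hR (K ⧸ center K) hnc P (PB A K) ?_ ?_ ?_
  · -- `≠ 1`
    intro hbot
    refine h.inf_comp_ne_bot hI hZ hK ?_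
    rw [eq_bot_iff]
    intro a ha
    have h1 : QuotientGroup.mk' (center K) ⟨a, ha.2⟩ ∈ PB A K := ⟨⟨a, ha.2⟩, ha.1, rfl⟩
    rw [hbot, mem_bot] at h1
    have h2 : (⟨a, ha.2⟩ : K) ∈ center K := (QuotientGroup.eq_one_iff _).1 h1
    have h3 := h.center_le hK ha.2 (mem_center_of.1 h2)
    rw [← h.inf_pCore]
    exact ⟨ha.1, h3⟩
  · refine lt_of_le_of_ne (by rw [hP]; exact map_mono fun x hx => h.closed.1 hx) fun e => ?_
    refine h.comp_not_le hK (le_of_proj_eq hK S h.closed fun x hx => ?_)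
    have h1 : QuotientGroup.mk' (center K) ⟨x, hx.2⟩ ∈ PB A K := by
      rw [e, hP]
      exact ⟨⟨x, hx.2⟩, hx.1, rfl⟩
    obtain ⟨t, ht, htx⟩ := h1
    have h2 : t⁻¹ * ⟨x, hx.2⟩ ∈ center K := QuotientGroup.eq.mp htx
    have h3 := mem_center_of.1 h2
    refine ⟨hx, x⁻¹ * t, ?_, ?_⟩
    · have e2 : x⁻¹ * (t : G) = (((t⁻¹ * ⟨x, hx.2⟩ : K) : G))⁻¹ := by push_cast; group
      rw [e2]
      exact inv_mem h3
    · rw [mul_inv_cancel_left]
      exact ht
  · have hQK : ¬ p ∣ (S : Subgroup G).relIndex K :=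
      H222.SylowJoin.not_dvd_relIndex_of_subnormal S.2 S.not_dvd_index hK.1
    have hQp : IsPGroup p ↥((S : Subgroup G).subgroupOf K) := S.2.comap_of_injective K.subtype K.subtype_injective
    let P' : Sylow p K := hQp.toSylow hQK
    have h1 : IsStronglyClosed (A.subgroupOf K) (P' : Subgroup K) := H280.StrongQuot.stronglyClosed_subgroupOf h.closed
    have h2 := H280.StrongQuot.stronglyClosed_map_quotient P' h1 (center K)
    rw [hP]
    exact h2

theorem Sit.rows (hI : InnerHyp.{u} p) (hZ : ZStarHyp.{u} p) (hR : RowFF.{u} p) (h : Sit S A) {K : Subgroup G}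
    (hK : IsComponent K) :
    RowA (PB (S : Subgroup G) K) (PB A K) ∨ RowB p (PB (S : Subgroup G) K) (PB A K) :=
  h.row_of hI hZ hK (R := fun L _ P T => RowA P T ∨ RowB p P T) hR

theorem Sit.typeA (h : Sit S A) {K : Subgroup G} (hK : IsComponent K)
    (hr : RowA (PB (S : Subgroup G) K) (PB A K)) :
    (groupFusionSystem (S : Subgroup G)).IsNormal ((S : Subgroup G) ⊓ K) ∧
      ∀ X ≤ (S : Subgroup G) ⊓ K, X ⊔ (A ⊓ K) = (S : Subgroup G) ⊓ K → X = (S : Subgroup G) ⊓ K := by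
  have hKn := h.comp_normal hK
  have hZS : ∀ z ∈ K, z ∈ centralizer (K : Set G) → z ∈ (S : Subgroup G) := fun z hz hzc =>
    Lib.Cores.pCore_le_sylow S (h.center_le hK hz hzc)
  refine ⟨?_, ?_⟩
  · refine isNormal_of_mod S (Z := K ⊓ centralizer (K : Set G)) hKn inferInstance
      (fun z hz => ⟨hZS z hz.1 hz.2, hz.1⟩) (fun z hz k hk => (mem_centralizer_iff.1 hz.2) k hk.2) ?_
    intro x hx g hg hgx
    have hB : ∀ (y : K ⧸ center K), y ∈ zpowers (QuotientGroup.mk' (center K) ⟨x, hx.2⟩) →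
        QuotientGroup.mk' (center K) ⟨g, hg⟩ * y * (QuotientGroup.mk' (center K) ⟨g, hg⟩)⁻¹ ∈ PB (S : Subgroup G) K := by
      intro y hy
      obtain ⟨k, rfl⟩ := mem_zpowers_iff.1 hy
      rw [← conj_zpow]
      refine zpow_mem ?_ k
      rw [← map_inv, ← map_mul, ← map_mul, mem_PB_iff hZS]
      exact hgx
    obtain ⟨nb, hnb, hnbx⟩ := ctl_of_isNormal hr.1 (zpowers (QuotientGroup.mk' (center K) ⟨x, hx.2⟩))
      (zpowers_le.2 ((mem_PB_iff hZS _).2 hx.1)) (QuotientGroup.mk' (center K) ⟨g, hg⟩) hB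
    obtain ⟨n, rfl⟩ := QuotientGroup.mk'_surjective (center K) nb
    refine ⟨n, n.2, Transfer.FusionBasic.mem_normalizer_of_conj_mem fun q hq => ?_, ?_⟩
    · have h1 : QuotientGroup.mk' (center K) ⟨q, hq.2⟩ ∈ PB (S : Subgroup G) K := (mem_PB_iff hZS _).2 hq.1
      have h2 := (mem_normalizer_iff.1 hnb _).1 h1
      rw [← map_inv, ← map_mul, ← map_mul, mem_PB_iff hZS] at h2
      exact ⟨h2, K.mul_mem (K.mul_mem n.2 hq.2) (K.inv_mem n.2)⟩
    · have h1 := hnbx _ (mem_zpowers _)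
      rw [← map_inv, ← map_inv, ← map_mul, ← map_mul, ← map_mul, ← map_mul] at h1
      have h2 : (n * ⟨x, hx.2⟩ * n⁻¹)⁻¹ * ((⟨g, hg⟩ : K) * ⟨x, hx.2⟩ * (⟨g, hg⟩ : K)⁻¹) ∈ center K := QuotientGroup.eq.mp h1
      exact ⟨((n * ⟨x, hx.2⟩ * n⁻¹)⁻¹ * ((⟨g, hg⟩ : K) * ⟨x, hx.2⟩ * (⟨g, hg⟩ : K)⁻¹)).2, mem_center_of.1 h2⟩
  · intro X hX hXA
    have hXS : X ≤ (S : Subgroup G) := hX.trans inf_le_left
    have h1 : PB X K ⊔ PB A K = PB (S : Subgroup G) K := by
      show (X.subgroupOf K).map _ ⊔ (A.subgroupOf K).map _ = ((S : Subgroup G).subgroupOf K).map _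
      rw [← Subgroup.map_sup]
      congr 1
      rw [← inf_subgroupOf_right A K, ← subgroupOf_sup (hX.trans inf_le_right) inf_le_right, hXA,
        inf_subgroupOf_right]
    have h2 := hr.2 (PB X K) (map_mono fun x hx => hXS hx) h1
    -- every element of `S ∩ K` is in `X Z(K)`
    have h3 : ∀ s ∈ (S : Subgroup G) ⊓ K, ∃ x ∈ X, ∃ z ∈ centralizer (K : Set G), s = x * z := by
      intro s hs
      have h4 : QuotientGroup.mk' (center K) ⟨s, hs.2⟩ ∈ PB (S : Subgroup G) K := (mem_PB_iff hZS _).2 hs.1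
      rw [← h2] at h4
      obtain ⟨x, hx, e⟩ := h4
      have h5 : x⁻¹ * ⟨s, hs.2⟩ ∈ center K := QuotientGroup.eq.mp e
      exact ⟨x, hx, (x : G)⁻¹ * s, mem_center_of.1 h5, by group⟩
    have hcomm : ∀ a ∈ (S : Subgroup G) ⊓ K, ∀ b ∈ (S : Subgroup G) ⊓ K, a * b * a⁻¹ * b⁻¹ ∈ X := by
      intro a ha b hb
      obtain ⟨x, hx, z, hz, rfl⟩ := h3 a ha
      obtain ⟨y, hy, w, hw, rfl⟩ := h3 b hb
      have hxK : x ∈ K := (hX hx).2
      have hyK : y ∈ K := (hX hy).2
      have hzy : y * z = z * y := (mem_centralizer_iff.1 hz) y hyK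
      have hzw : w * z = z * w := by
        have hwK : w ∈ K := by
          have := K.mul_mem (K.inv_mem hyK) hb.2
          rwa [inv_mul_cancel_left] at this
        exact (mem_centralizer_iff.1 hz) w hwK
      have hwx : x * w = w * x := (mem_centralizer_iff.1 hw) x hxK
      have hwy : y * w = w * y := (mem_centralizer_iff.1 hw) y hyK
      have e1 : (x * z) * (y * w) = (x * y) * (z * w) := by
        calc (x * z) * (y * w) = x * (z * y) * w := by group
          _ = x * (y * z) * w := by rw [hzy]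
          _ = (x * y) * (z * w) := by group
      have e2 : (y * w) * (x * z) = (y * x) * (z * w) := by
        calc (y * w) * (x * z) = y * (w * x) * z := by group
          _ = y * (x * w) * z := by rw [hwx]
          _ = (y * x) * (w * z) := by group
          _ = (y * x) * (z * w) := by rw [hzw]
      have e3 : x * z * (y * w) * (x * z)⁻¹ * (y * w)⁻¹ = ((x * z) * (y * w)) * ((y * w) * (x * z))⁻¹ := by group
      rw [e3, e1, e2]
      have e4 : x * y * (z * w) * (y * x * (z * w))⁻¹ = x * y * x⁻¹ * y⁻¹ := by group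
      rw [e4]
      exact mul_mem (mul_mem (mul_mem hx hy) (inv_mem hx)) (inv_mem hy)
    have hQK : ¬ p ∣ (S : Subgroup G).relIndex K :=
      H222.SylowJoin.not_dvd_relIndex_of_subnormal S.2 S.not_dvd_index hK.1
    have hQp : IsPGroup p ↥((S : Subgroup G).subgroupOf K) := S.2.comap_of_injective K.subtype K.subtype_injective
    let P : Sylow p K := hQp.toSylow hQK
    have hPX : _root_.commutator (P : Subgroup K) ≤ (X.subgroupOf K).subgroupOf (P : Subgroup K) := by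
      rw [_root_.commutator_def, commutator_le]
      intro a _ b _
      exact hcomm a ⟨a.2, a.1.2⟩ b ⟨b.2, b.1.2⟩
    refine le_antisymm hX fun s hs => ?_
    obtain ⟨x, hx, z, hz, rfl⟩ := h3 s hs
    have hzK : z ∈ K := by
      have := K.mul_mem (K.inv_mem (hX hx).2) hs.2
      rwa [inv_mul_cancel_left] at this
    have hzc : (⟨z, hzK⟩ : K) ∈ center K := mem_center_of.2 hz
    have h6 := H629.PIndex.mem_commutator_of_perfect (G := K) hK.2.1.1 P ⟨⟨z, hzK⟩, hZS z hzK hz⟩ hzc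
    exact X.mul_mem hx (hPX h6)

end Cfsg.Agent.H760.Str
end

-- part: H760/StrGen
section
/-!
# Strongly closed subgroups consisting of nongenerators (helper760, for S5305)

* `GenP p G` : a strongly closed subgroup `T ≠ S` of a Sylow `p`-subgroup `S` consists of nongenerators of `S`;
* `GenP.of_one`, `GenP.of_mulEquiv`, `GenP.of_fullP`;
* `genP_of_cube` : nonabelian Sylow subgroups of order `p³` without strongly closed subgroups of order `p²`;
* `genP_of_abelian` : abelian Sylow subgroups, from the conclusion of S5303;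
* `rowA_of` : the row from `NFus` and `GenP`.
-/
set_option autoImplicit false

universe u

namespace Cfsg.Agent.H760.Str

open Subgroup Cfsg Cfsg.Agent.H749 Cfsg.Agent.H792.SpCube Cfsg.Agent.H792.SpTool
open scoped commutatorElement

/-- strongly closed subgroups `T ≠ P` consist of nongenerators -/
def GenP (p : ℕ) (G : Type*) [Group G] : Prop :=
  ∀ (P : Sylow p G) (T : Subgroup G), IsStronglyClosed T (P : Subgroup G) → T ≠ (P : Subgroup G) →
    ∀ X ≤ (P : Subgroup G), X ⊔ T = (P : Subgroup G) → X = (P : Subgroup G)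

variable {p : ℕ} [hp : Fact p.Prime]

/-- one Sylow subgroup suffices -/
theorem GenP.of_one {G : Type*} [Group G] [Finite G] (S : Sylow p G)
    (h : ∀ T : Subgroup G, IsStronglyClosed T (S : Subgroup G) → T ≠ (S : Subgroup G) →
      ∀ X ≤ (S : Subgroup G), X ⊔ T = (S : Subgroup G) → X = (S : Subgroup G)) : GenP p G := by
  intro P T hT hne X hX hXT
  obtain ⟨k, rfl⟩ := MulAction.exists_smul_eq G S P
  have hmapS : (S : Subgroup G) = ((k • S : Sylow p G) : Subgroup G).map (MulAut.conj k⁻¹).toMonoidHom := by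
    ext x
    rw [mem_map_conj, inv_inv, mem_smul]
    have e : k⁻¹ * (k * x * k⁻¹) * k = x := by group
    rw [e]
  have hinj : Function.Injective (Subgroup.map (MulAut.conj k⁻¹).toMonoidHom) :=
    Subgroup.map_injective (MulAut.conj k⁻¹).injective
  have h1 := h _ (closed_conj hT) (fun e => hne (hinj (by rw [e]; exact hmapS)))
    (X.map (MulAut.conj k⁻¹).toMonoidHom) (by rw [hmapS]; exact Subgroup.map_mono hX) (by
      rw [← Subgroup.map_sup, hXT]
      exact hmapS.symm)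
  exact hinj (h1.trans hmapS)

theorem GenP.of_mulEquiv {G : Type*} [Group G] {H : Type*} [Group H] [Finite H] (e : G ≃* H)
    (h : GenP p G) : GenP p H := by
  intro P T hT hne X hX hXT
  have hfin : Finite G := Finite.of_equiv H e.symm.toEquiv
  let P' : Sylow p G := P.mapSurjective (f := e.symm.toMonoidHom) e.symm.surjective
  have hP' : (P' : Subgroup G) = (P : Subgroup H).map e.symm.toMonoidHom := rfl
  have hinj : Function.Injective (Subgroup.map e.symm.toMonoidHom) := Subgroup.map_injective e.symm.injective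
  have hcl : IsStronglyClosed (T.map e.symm.toMonoidHom) (P' : Subgroup G) := by
    refine ⟨by rw [hP']; exact Subgroup.map_mono hT.1, ?_⟩
    rintro _ ⟨t, ht, rfl⟩ g hg
    obtain ⟨h', rfl⟩ := e.symm.surjective g
    have h2 : e.symm.toMonoidHom (h' * t * h'⁻¹) = e.symm h' * (e.symm.toMonoidHom t) * (e.symm h')⁻¹ := by
      show e.symm (h' * t * h'⁻¹) = _
      rw [map_mul, map_mul, map_inv]
      rfl
    rw [← h2] at hg ⊢
    rw [hP'] at hg
    have h3 : h' * t * h'⁻¹ ∈ (P : Subgroup H) := by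
      obtain ⟨y, hy, e2⟩ := hg
      rwa [← e.symm.injective e2]
    exact ⟨_, hT.2 t ht h' h3, rfl⟩
  exact hinj (h P' _ hcl (fun e2 => hne (hinj e2)) (X.map e.symm.toMonoidHom) (Subgroup.map_mono hX) (by
    rw [← Subgroup.map_sup, hXT, hP']))

omit hp in
/-- the row -/
theorem rowA_of {G : Type*} [Group G] (hN : H794.NFus p G) (hG : GenP p G) (P : Sylow p G) {T : Subgroup G}
    (hT : T < (P : Subgroup G)) (hcl : IsStronglyClosed T (P : Subgroup G)) : RowA (P : Subgroup G) T :=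
  ⟨hN.isNormal P, fun X hX hXT => hG P T hcl hT.ne X hX hXT⟩

/-- a subgroup of order `p` of a nonabelian Sylow subgroup of order `p³`, normal in it, consists of nongenerators. -/
theorem gen_of_card {G : Type*} [Group G] {P T : Subgroup G} (hP : Nat.card P = p ^ 3) (hT : Nat.card T = p)
    (_hTP : T ≤ P) (hn : ∀ x ∈ P, ∀ t ∈ T, x * t * x⁻¹ ∈ T) (hna : ∃ a ∈ P, ∃ b ∈ P, a * b ≠ b * a) :
    ∀ X ≤ P, X ⊔ T = P → X = P := by
  intro X hX hXT
  by_contra hne
  have hfin : Finite P := Nat.finite_of_card_ne_zero (by rw [hP]; exact pow_ne_zero 3 hp.out.ne_zero)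
  have hPp : IsPGroup p P := IsPGroup.of_card hP
  -- `T` is central
  have hcen : ∀ x ∈ P, ∀ t ∈ T, x * t = t * x := by
    intro x hx t ht
    obtain ⟨n, hn'⟩ := hPp ⟨x, hx⟩
    have hs : ∃ n : ℕ, x ^ p ^ n = 1 := ⟨n, by simpa using congrArg Subtype.val hn'⟩
    exact commute_of_card hT hs (hn x hx) ht
  -- `X` has order at most `p²`, so it is abelian
  have hXlt : X < P := lt_of_le_of_ne hX hne
  have hdvd : Nat.card X ∣ p ^ 3 := hP ▸ Subgroup.card_dvd_of_le hX
  obtain ⟨n, hn3, hXc⟩ := (Nat.dvd_prime_pow hp.out).1 hdvd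
  have hfX : Finite X := Finite.of_injective _ (Subgroup.inclusion_injective hX)
  have hn2 : n ≤ 2 := by
    by_contra hlt
    have : n = 3 := by omega
    rw [this, ← hP] at hXc
    exact hne (Subgroup.eq_of_le_of_card_ge hX hXc.ge)
  have hXcomm : ∀ x ∈ X, ∀ y ∈ X, x * y = y * x := by
    intro x hx y hy
    interval_cases n
    · rw [pow_zero, Subgroup.card_eq_one] at hXc
      rw [hXc, mem_bot] at hx
      rw [hx, one_mul, mul_one]
    · rw [pow_one] at hXc
      have hcyc : IsCyclic X := isCyclic_of_prime_card hXc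
      have := hcyc.isMulCommutative
      exact congrArg Subtype.val (this.is_comm.comm (⟨x, hx⟩ : X) ⟨y, hy⟩)
    · have := (IsPGroup.isMulCommutative_of_card_eq_prime_sq hXc).is_comm.comm (⟨x, hx⟩ : X) ⟨y, hy⟩
      exact congrArg Subtype.val this
  obtain ⟨a, ha, b, hb, hab⟩ := hna
  have h1 : P ≤ centralizer (X : Set G) := by
    rw [← hXT]
    refine sup_le (fun x hx => mem_centralizer_iff.2 fun y hy => hXcomm y hy x hx) fun t ht => ?_
    exact mem_centralizer_iff.2 fun y hy => hcen y (hX hy) t ht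
  have h2 : P ≤ centralizer (P : Set G) := by
    conv_lhs => rw [← hXT]
    refine sup_le (fun x hx => mem_centralizer_iff.2 fun y hy => ?_) fun t ht => ?_
    · exact ((mem_centralizer_iff.1 (h1 hy)) x hx).symm
    · exact mem_centralizer_iff.2 fun y hy => hcen y hy t ht
  exact hab ((mem_centralizer_iff.1 (h2 hb)) a ha)

/-- **Nonabelian Sylow subgroups of order `p³`.** -/
theorem genP_of_cube {G : Type*} [Group G] [Finite G] (h3 : p ^ 3 ∣ Nat.card G) (h4 : ¬ p ^ 4 ∣ Nat.card G)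
    (hna : ∀ S : Sylow p G, ∃ a ∈ (S : Subgroup G), ∃ b ∈ (S : Subgroup G), a * b ≠ b * a)
    (hirr : ∀ (S : Sylow p G) (T : Subgroup G), IsStronglyClosed T (S : Subgroup G) → Nat.card T ≠ p ^ 2) : GenP p G := by
  intro P T hT hne
  have hcard : Nat.card (P : Subgroup G) = p ^ 3 := by
    obtain ⟨n, hn⟩ := IsPGroup.iff_card.1 P.2
    have h5 : p ^ 3 ∣ Nat.card (P : Subgroup G) := P.pow_dvd_card_of_pow_dvd_card h3
    rw [hn] at h5 ⊢
    have h6 : 3 ≤ n := (Nat.pow_dvd_pow_iff_le_right hp.out.one_lt).1 h5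
    have h7 : n < 4 := by
      by_contra hlt
      exact h4 ((pow_dvd_pow p (by omega)).trans (hn ▸ Subgroup.card_subgroup_dvd_card (P : Subgroup G)))
    have : n = 3 := by omega
    rw [this]
  have hdvd : Nat.card T ∣ p ^ 3 := hcard ▸ Subgroup.card_dvd_of_le hT.1
  obtain ⟨n, hn3, hTc⟩ := (Nat.dvd_prime_pow hp.out).1 hdvd
  have hn2 : n ≠ 2 := fun h => hirr P T hT (by rw [hTc, h])
  have hn3' : n ≠ 3 := by
    intro h
    rw [h, ← hcard] at hTc
    exact hne (Subgroup.eq_of_le_of_card_ge hT.1 hTc.ge)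
  have hn1 : n = 0 ∨ n = 1 := by omega
  rcases hn1 with rfl | rfl
  · rw [pow_zero, Subgroup.card_eq_one] at hTc
    intro X _ hXT
    rwa [hTc, sup_bot_eq] at hXT
  · rw [pow_one] at hTc
    refine gen_of_card hcard hTc hT.1 (fun x hx t ht => ?_) (hna P)
    exact hT.2 t ht x (mul_mem (mul_mem hx (hT.1 ht)) (inv_mem hx))

/-! ### Abelian Sylow subgroups -/

omit hp in
/-- the `p`-th powers are nongenerators -/
theorem le_of_pow {G : Type*} [Group G] {P X : Subgroup G} (hab : ∀ a ∈ P, ∀ b ∈ P, a * b = b * a) {e : ℕ}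
    (he : ∀ a ∈ P, a ^ p ^ e = 1) (hX : X ≤ P) (h : ∀ s ∈ P, ∃ x ∈ X, ∃ u ∈ P, s = x * u ^ p) : P ≤ X := by
  have key : ∀ n : ℕ, ∀ s ∈ P, ∃ x ∈ X, ∃ u ∈ P, s = x * u ^ p ^ n := by
    intro n
    induction n with
    | zero => exact fun s hs => ⟨1, one_mem _, s, hs, by rw [pow_zero, pow_one, one_mul]⟩
    | succ n ih =>
      intro s hs
      obtain ⟨x, hx, u, hu, rfl⟩ := ih s hs
      obtain ⟨y, hy, v, hv, rfl⟩ := h u hu
      refine ⟨x * y ^ p ^ n, mul_mem hx (pow_mem hy _), v, hv, ?_⟩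
      have hc : Commute y (v ^ p) := hab y (hX hy) _ (pow_mem hv p)
      rw [hc.mul_pow, ← pow_mul, pow_succ', mul_assoc]
  intro s hs
  obtain ⟨x, hx, u, hu, rfl⟩ := key e s hs
  rw [he u hu, mul_one]
  exact hx

theorem exists_root {k e : ℕ} (he : 1 ≤ e) (x : Fin k → Multiplicative (ZMod (p ^ e))) (hx : x ^ p ^ (e - 1) = 1) :
    ∃ y, y ^ p = x := by
  have h1 : ∀ i, ∃ b : Multiplicative (ZMod (p ^ e)), b ^ p = x i := by
    intro i
    have h2 : (x i) ^ p ^ (e - 1) = 1 := congrFun hx i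
    obtain ⟨a, ha⟩ : ∃ a : ZMod (p ^ e), x i = Multiplicative.ofAdd a := ⟨_, rfl⟩
    rw [ha, ← ofAdd_nsmul] at h2
    have h3 : (p ^ (e - 1)) • a = 0 := h2
    have hne : NeZero (p ^ e) := ⟨pow_ne_zero _ hp.out.ne_zero⟩
    have h4 : ((p ^ (e - 1) * a.val : ℕ) : ZMod (p ^ e)) = 0 := by
      rw [nsmul_eq_mul] at h3
      push_cast
      push_cast at h3
      rwa [ZMod.natCast_zmod_val]
    rw [ZMod.natCast_eq_zero_iff] at h4
    have h5 : p ∣ a.val := by
      have e1 : p ^ e = p ^ (e - 1) * p := by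
        rw [← pow_succ]
        congr 1
        omega
      have h6 : p ^ (e - 1) * p ∣ p ^ (e - 1) * a.val := e1 ▸ h4
      exact (Nat.mul_dvd_mul_iff_left (pow_pos hp.out.pos _)).1 h6
    obtain ⟨b, hb⟩ := h5
    refine ⟨Multiplicative.ofAdd (b : ZMod (p ^ e)), ?_⟩
    rw [ha, ← ofAdd_nsmul]
    congr 1
    rw [nsmul_eq_mul, ← Nat.cast_mul, ← hb, ZMod.natCast_zmod_val]
  choose y hy using h1
  exact ⟨y, funext hy⟩

/-- **Abelian Sylow subgroups**, from the conclusion of S5303. -/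
theorem gen_of_abelian {G : Type*} [Group G] [Finite G] (S : Sylow p G) (hab : IsMulCommutative (S : Subgroup G))
    (hirr : ∀ B : Subgroup G, (∀ b ∈ B, b ∈ (S : Subgroup G) ∧ b ^ p = 1) →
      (∀ n ∈ Subgroup.normalizer ((S : Subgroup G) : Set G), ∀ b ∈ B, n * b * n⁻¹ ∈ B) →
      B = ⊥ ∨ ∀ x ∈ (S : Subgroup G), x ^ p = 1 → x ∈ B)
    (hhom : ∃ k e : ℕ, Nonempty (↥(S : Subgroup G) ≃* (Fin k → Multiplicative (ZMod (p ^ e)))))
    {T : Subgroup G} (hT : IsStronglyClosed T (S : Subgroup G)) (hne : T ≠ (S : Subgroup G)) :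
    ∀ X ≤ (S : Subgroup G), X ⊔ T = (S : Subgroup G) → X = (S : Subgroup G) := by
  obtain ⟨k, e, ⟨φ⟩⟩ := hhom
  have hc : ∀ a ∈ (S : Subgroup G), ∀ b ∈ (S : Subgroup G), a * b = b * a := fun a ha b hb => H795.comm_of hab ha hb
  have hexp : ∀ a ∈ (S : Subgroup G), a ^ p ^ e = 1 := by
    intro a ha
    have h1 : (φ ⟨a, ha⟩) ^ p ^ e = 1 := by
      funext i
      show (φ ⟨a, ha⟩ i) ^ p ^ e = 1
      obtain ⟨c, hc⟩ : ∃ c : ZMod (p ^ e), φ ⟨a, ha⟩ i = Multiplicative.ofAdd c := ⟨_, rfl⟩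
      rw [hc, ← ofAdd_nsmul, nsmul_eq_mul]
      simp
    rw [← map_pow] at h1
    have h2 := (map_eq_one_iff φ φ.injective).1 h1
    exact congrArg Subtype.val h2
  by_cases he : e = 0
  · exfalso
    apply hne
    refine le_antisymm hT.1 fun x hx => ?_
    have := hexp x hx
    rw [he, pow_zero, pow_one] at this
    rw [this]
    exact one_mem _
  have he1 : 1 ≤ e := by omega
  have hroot : ∀ s ∈ (S : Subgroup G), s ^ p ^ (e - 1) = 1 → ∃ u ∈ (S : Subgroup G), u ^ p = s := by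
    intro s hs h1
    have h2 : (φ ⟨s, hs⟩) ^ p ^ (e - 1) = 1 := by
      rw [← map_pow]
      have : (⟨s, hs⟩ : (S : Subgroup G)) ^ p ^ (e - 1) = 1 := Subtype.ext h1
      rw [this, map_one]
    obtain ⟨y, hy⟩ := exists_root he1 _ h2
    refine ⟨φ.symm y, (φ.symm y).2, ?_⟩
    have h3 : (φ.symm y) ^ p = ⟨s, hs⟩ := by
      apply φ.injective
      rw [map_pow, φ.apply_symm_apply, hy]
    exact congrArg Subtype.val h3
  have hinv : ∀ n ∈ Subgroup.normalizer ((S : Subgroup G) : Set G), ∀ t ∈ T, n * t * n⁻¹ ∈ T := fun n hn t ht =>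
    hT.2 t ht n ((mem_normalizer_iff.1 hn t).1 (hT.1 ht))
  have hTab : IsMulCommutative T := H795.isMulCommutative_of fun a ha b hb => hc a (hT.1 ha) b (hT.1 hb)
  have hB : ∀ b ∈ H795.powS (p ^ (e - 1)) T hTab, b ∈ (S : Subgroup G) ∧ b ^ p = 1 := by
    rintro _ ⟨t, ht, rfl⟩
    refine ⟨pow_mem (hT.1 ht) _, ?_⟩
    rw [← pow_mul, ← pow_succ, show e - 1 + 1 = e by omega]
    exact hexp t (hT.1 ht)
  rcases hirr (H795.powS (p ^ (e - 1)) T hTab) hB (by
    rintro n hn _ ⟨t, ht, rfl⟩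
    exact ⟨n * t * n⁻¹, hinv n hn t ht, by rw [conj_pow]⟩) with h1 | h1
  · -- `T ≤ S ^ p`
    intro X hX hXT
    refine le_antisymm hX (le_of_pow hc hexp hX fun s hs => ?_)
    have h2 : s ∈ X ⊔ T := by rw [hXT]; exact hs
    have hle : T ≤ normalizer (X : Set G) := fun t ht =>
      Transfer.FusionBasic.mem_normalizer_of_conj_mem fun x hx => by
        rw [hc t (hT.1 ht) x (hX hx), mul_inv_cancel_right]; exact hx
    have h3 : s ∈ ((X ⊔ T : Subgroup G) : Set G) := h2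
    rw [Subgroup.coe_mul_of_right_le_normalizer_left X T hle] at h3
    obtain ⟨x, hx, t, ht, rfl⟩ := h3
    have h4 : t ^ p ^ (e - 1) = 1 := by
      have : t ^ p ^ (e - 1) ∈ H795.powS (p ^ (e - 1)) T hTab := ⟨t, ht, rfl⟩
      rw [h1, mem_bot] at this
      exact this
    obtain ⟨u, hu, rfl⟩ := hroot t (hT.1 ht) h4
    exact ⟨x, hx, u, hu, rfl⟩
  · exfalso
    apply hne
    refine le_antisymm hT.1 (le_of_pow hc hexp hT.1 fun s hs => ?_)
    obtain ⟨t, ht, hts⟩ := h1 (s ^ p ^ (e - 1)) (pow_mem hs _) (by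
      rw [← pow_mul, ← pow_succ, show e - 1 + 1 = e by omega]
      exact hexp s hs)
    have h2 : (t⁻¹ * s) ^ p ^ (e - 1) = 1 := by
      rw [(show Commute t⁻¹ s from hc _ (inv_mem (hT.1 ht)) s hs).mul_pow, inv_pow, hts, inv_mul_cancel]
    obtain ⟨u, hu, hus⟩ := hroot _ (mul_mem (inv_mem (hT.1 ht)) hs) h2
    exact ⟨t, ht, u, hu, by rw [hus]; group⟩

end Cfsg.Agent.H760.Str
end

-- part: H760/StrU3
section
/-!
# The groups `PSU₃(q)`, `p ∣ q` odd (helper760, for S5305)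

`genP_psu` : a strongly closed subgroup `T ≠ S` of a Sylow `p`-subgroup `S` of `PSU₃(q)` consists of nongenerators of `S`.
-/
set_option autoImplicit false

namespace Cfsg.Agent.H760.StrU3

open Subgroup Cfsg Cfsg.Agent.H760.Str
open Cfsg.Agent.ClassicalGeometry.PSUAutBasic Cfsg.Agent.ClassicalGeometry.PSUAutSylow
  Cfsg.Agent.ClassicalGeometry.PSUAutPhi Cfsg.Agent.ClassicalGeometry.PSUAutSemi
  Cfsg.Agent.ClassicalGeometry.PSUAutTorus Cfsg.Agent.ClassicalGeometry.PSUAutDelta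
  Cfsg.Agent.LieClassical.HermSiegel Cfsg.Agent.LieClassical.HermBasic Cfsg.Agent.LieClassical.HermGen

variable {F : Type*} [Field F] [Fintype F] {q p : ℕ} [hp : Fact p.Prime] [CharP F p]

/-- the basis vector -/
abbrev zz (F : Type*) [Field F] : Fin 3 → F := Pi.single 0 1

/-! ### The field -/

omit hp [CharP F p] in
/-- A set closed under addition, negation and multiplication by the elements `a ^ q * (a ^ q * a⁻¹)` is closed under
multiplication by `F`. -/
theorem smul_mem_of (hF : Fintype.card F = q ^ 2) (hq : 2 < q) (M : AddSubgroup F)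
    (hM : ∀ a : F, a ≠ 0 → ∀ x ∈ M, (a ^ q * (a ^ q * a⁻¹)) * x ∈ M) (r x : F) (hx : x ∈ M) : r * x ∈ M := by
  -- the fixed elements
  have hfix : ∀ a : F, a ^ q = a → ∀ x ∈ M, a * x ∈ M := by
    intro a ha x hx
    by_cases h0 : a = 0
    · rw [h0, zero_mul]; exact M.zero_mem
    · have h1 := hM a h0 x hx
      rw [ha, mul_inv_cancel₀ h0, mul_one] at h1
      exact h1
  -- a multiplier which is not fixed
  obtain ⟨a, ha0, ha⟩ : ∃ a : F, a ≠ 0 ∧ (a ^ q * (a ^ q * a⁻¹)) ^ q ≠ a ^ q * (a ^ q * a⁻¹) := by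
    by_contra hcon
    push Not at hcon
    obtain ⟨g, hg⟩ := IsCyclic.exists_generator (α := Fˣ)
    have h1 := hcon (g : F) g.ne_zero
    have hg0 : (g : F) ≠ 0 := g.ne_zero
    have h2 : ((g : F) ^ q) ^ 3 = (g : F) ^ 3 := by
      rw [mul_pow, mul_pow, pow_q_pow_q hF, inv_pow] at h1
      have hgq : (g : F) ^ q ≠ 0 := pow_ne_zero _ hg0
      field_simp at h1
      linear_combination -h1
    have h3 : g ^ (3 * (q - 1)) = 1 := by
      apply Units.ext
      push_cast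
      have h4 : (g : F) ^ (3 * (q - 1)) * (g : F) ^ 3 = 1 * (g : F) ^ 3 := by
        rw [← pow_add, one_mul, ← h2, ← pow_mul]
        congr 1
        have : 1 ≤ q := by omega
        zify [this]
        ring
      exact mul_right_cancel₀ (pow_ne_zero 3 hg0) h4
    have h5 : Nat.card Fˣ ∣ 3 * (q - 1) := by
      rw [← orderOf_eq_card_of_forall_mem_zpowers hg]
      exact orderOf_dvd_of_pow_eq_one h3
    rw [card_units_eq hF] at h5
    have h6 : q + 1 ∣ 3 := Nat.dvd_of_mul_dvd_mul_right (by omega) h5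
    have := Nat.le_of_dvd (by norm_num) h6
    omega
  set s := a ^ q * (a ^ q * a⁻¹) with hs
  have hss : s - s ^ q ≠ 0 := sub_ne_zero.2 (Ne.symm ha)
  -- `r = α + β s`
  set β := (r - r ^ q) / (s - s ^ q) with hβ
  have hβq : β ^ q = β := by
    rw [hβ, div_pow, sub_pow_q hF, sub_pow_q hF, pow_q_pow_q hF, pow_q_pow_q hF]
    rw [← neg_sub r (r ^ q), ← neg_sub s (s ^ q), neg_div_neg_eq]
  have hβs : β * (s - s ^ q) = r - r ^ q := div_mul_cancel₀ _ hss
  have hα : (r - β * s) ^ q = r - β * s := by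
    rw [sub_pow_q hF, mul_pow, hβq]
    linear_combination hβs
  have e : r * x = (r - β * s) * x + β * (s * x) := by ring
  rw [e]
  exact M.add_mem (hfix _ hα x hx) (hfix _ hβq _ (hM a ha0 x hx))

/-! ### The subgroups of the Siegel group -/

variable {e f : Fin 3 → F}

omit hp [CharP F p] [Fintype F] in
theorem isSiegel_congr {w w' : Fin 3 → F} {μ : F} (hw : w = w') (h : IsSiegel q e w μ) : IsSiegel q e w' μ := hw ▸ h

/-- the first coordinates -/
def WW (hF : Fintype.card F = q ^ 2) (H : IsFrame q e f) (Y : Subgroup (PSU 3 F q)) : AddSubgroup F where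
  carrier := {c | ∃ (μ : F) (h : IsSiegel q e (c • zz F) μ), pr 3 F q (siegel hF e (c • zz F) μ h) ∈ Y}
  zero_mem' := by
    refine ⟨0, isSiegel_congr (zero_smul F _).symm (IsSiegel.zero hF H.ee), ?_⟩
    rw [siegel_congr hF _ (IsSiegel.zero hF H.ee) rfl (zero_smul F _) rfl, siegel_zero, map_one]
    exact Y.one_mem
  add_mem' := by
    rintro c c' ⟨μ, h, h1⟩ ⟨μ', h', h2⟩
    have h3 := Y.mul_mem h1 h2
    rw [← map_mul, siegel_mul hF h h'] at h3
    refine ⟨_, isSiegel_congr (add_smul c c' _).symm (h.mul hF h'), ?_⟩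
    rw [siegel_congr hF _ (h.mul hF h') rfl (add_smul c c' _) rfl]
    exact h3
  neg_mem' := by
    rintro c ⟨μ, h, h1⟩
    have h3 := Y.inv_mem h1
    rw [← map_inv, siegel_inv hF h] at h3
    refine ⟨_, isSiegel_congr (neg_smul c _).symm (h.inv hF), ?_⟩
    rw [siegel_congr hF _ (h.inv hF) rfl (neg_smul c _) rfl]
    exact h3

omit hp [CharP F p] in
theorem mem_WW {hF : Fintype.card F = q ^ 2} {H : IsFrame q e f} {Y : Subgroup (PSU 3 F q)} {c : F} :
    c ∈ WW hF H Y ↔ ∃ (μ : F) (h : IsSiegel q e (c • zz F) μ), pr 3 F q (siegel hF e (c • zz F) μ h) ∈ Y := Iff.rfl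

/-- the Sylow subgroup -/
def PP (hF : Fintype.card F = q ^ 2) (H : IsFrame q e f) : Subgroup (PSU 3 F q) := (siegG hF e H.ee).map (pr 3 F q)

omit hp [CharP F p] in
theorem mem_PP {hF : Fintype.card F = q ^ 2} {H : IsFrame q e f} {x : PSU 3 F q} :
    x ∈ PP hF H ↔ ∃ (c μ : F) (h : IsSiegel q e (c • zz F) μ), x = pr 3 F q (siegel hF e (c • zz F) μ h) := by
  constructor
  · rintro ⟨_, ⟨w, μ, h, rfl⟩, rfl⟩
    obtain ⟨w', hw', μ', h', e1⟩ := exists_normal hF H h
    have e2 : w' = (w' 0) • zz F := by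
      funext i
      have hi := mem_coordSub.1 hw'
      fin_cases i
      · simp
      · have := hi 1 (by norm_num)
        simp [this]
      · have := hi 2 (by norm_num)
        simp [this]
    refine ⟨w' 0, μ', isSiegel_congr e2 h', ?_⟩
    rw [e1, siegel_congr hF h' (isSiegel_congr e2 h') rfl e2 rfl]
  · rintro ⟨c, μ, h, rfl⟩
    exact ⟨_, ⟨_, _, h, rfl⟩, rfl⟩

omit [Fintype F] in
theorem two_ne (hp2 : p ≠ 2) : (2 : F) ≠ 0 := by
  intro h
  have h1 : ((2 : ℕ) : F) = 0 := by exact_mod_cast h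
  rw [CharP.cast_eq_zero_iff F p] at h1
  have h2 := (Nat.dvd_prime Nat.prime_two).1 h1
  rcases h2 with h2 | h2
  · exact hp.out.ne_one h2
  · exact hp2 h2

theorem PP_le (hp2 : p ≠ 2) (hF : Fintype.card F = q ^ 2) (H : IsFrame q e f) {Y : Subgroup (PSU 3 F q)}
    (hY : ∀ c, c ∈ WW hF H Y) : PP hF H ≤ Y := by
  have h2 : (2 : F) ≠ 0 := two_ne hp2
  have h2q : (2 : F) ^ q = 2 := by
    have : (2 : F) = 1 + 1 := by norm_num
    rw [this, add_pow_q hF, one_pow]
  -- the transvections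
  have htr : ∀ (ν : F) (hν : ν + ν ^ q = 0), pr 3 F q (transv hF e H.ee ν hν) ∈ Y := by
    intro ν hν
    obtain ⟨μ, h, h1⟩ := hY (ν / 2)
    obtain ⟨μ', h', h3⟩ := hY 1
    have h4 := Y.mul_mem (Y.mul_mem (Y.mul_mem h1 h3) (Y.inv_mem h1)) (Y.inv_mem h3)
    rw [← map_mul, ← map_inv, ← map_mul, ← map_inv, ← map_mul,
      H934.IdxPSU.siegel_comm hF h h' hν (by
        rw [herm_smul_left, herm_smul_right, herm_single_zero hF, herm_smul_left, herm_smul_right,
          herm_single_zero hF, one_pow, div_pow, h2q]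
        have h5 : ν ^ q = -ν := by linear_combination hν
        rw [h5]
        field_simp
        ring)] at h4
    exact h4
  intro x hx
  obtain ⟨c, μ, h, rfl⟩ := mem_PP.1 hx
  obtain ⟨μ1, h1, h3⟩ := hY c
  have hν : (μ - μ1) + (μ - μ1) ^ q = 0 := by
    rw [sub_pow_q hF]
    linear_combination h.tr - h1.tr
  have h4 := Y.mul_mem (htr _ hν) h3
  rw [← map_mul] at h4
  have e1 : transv hF e H.ee (μ - μ1) hν * siegel hF e (c • zz F) μ1 h1 = siegel hF e (c • zz F) μ h := by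
    unfold transv
    rw [siegel_mul hF _ h1]
    apply siegel_congr hF _ _ rfl
    · rw [zero_add]
    · rw [herm_zero_right hF]; ring
  rwa [e1] at h4

omit hp [CharP F p] in
theorem WW_eq (hF : Fintype.card F = q ^ 2) (hq : 2 < q) (H : IsFrame q e f) {T : Subgroup (PSU 3 F q)}
    (hT : IsStronglyClosed T (PP hF H)) {c0 : F} (h0 : c0 ≠ 0) (hc0 : c0 ∈ WW hF H T) (c : F) : c ∈ WW hF H T := by
  have hM : ∀ a : F, a ≠ 0 → ∀ x ∈ WW hF H T, (a ^ q * (a ^ q * a⁻¹)) * x ∈ WW hF H T := by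
    intro a ha x hx
    obtain ⟨μ, h, h1⟩ := mem_WW.1 hx
    obtain ⟨l, hle, -, hlz, -⟩ := exists_torus_unit hF H single_zero_mem (herm_single_zero hF) ha
    obtain ⟨h', e1⟩ := conj_siegel_stab hF hle ha h
    have h2 : pr 3 F q l * pr 3 F q (siegel hF e (x • zz F) μ h) * (pr 3 F q l)⁻¹ =
        pr 3 F q (siegel hF e (a ^ q • act l (x • zz F)) (a * a ^ q * μ) h') := by
      rw [← map_inv, ← map_mul, ← map_mul, e1]
    have h3 := hT.2 _ h1 (pr 3 F q l) (by rw [h2]; exact ⟨_, ⟨_, _, h', rfl⟩, rfl⟩)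
    rw [h2] at h3
    have ew : a ^ q • act l (x • zz F) = ((a ^ q * (a ^ q * a⁻¹)) * x) • zz F := by
      rw [act_smul, hlz, smul_smul, smul_smul]
      congr 1
      ring
    refine mem_WW.2 ⟨_, isSiegel_congr ew h', ?_⟩
    rw [siegel_congr hF _ h' rfl ew.symm rfl]
    exact h3
  have h4 := smul_mem_of hF hq (WW hF H T) hM (c / c0) c0 hc0
  rwa [div_mul_cancel₀ c h0] at h4

theorem gen_psu (hp2 : p ≠ 2) (hF : Fintype.card F = q ^ 2) (hq : 2 < q) (H : IsFrame q e f) {T : Subgroup (PSU 3 F q)}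
    (hT : IsStronglyClosed T (PP hF H)) (hne : T ≠ PP hF H) :
    ∀ X ≤ PP hF H, X ⊔ T = PP hF H → X = PP hF H := by
  have hfin : Finite (PSU 3 F q) := Quotient.finite _
  have hT0 : ∀ (c μ : F) (h : IsSiegel q e (c • zz F) μ), pr 3 F q (siegel hF e (c • zz F) μ h) ∈ T → c = 0 := by
    intro c μ h h1
    by_contra h0
    have h2 : c ∈ WW hF H T := mem_WW.2 ⟨μ, h, h1⟩
    have h3 : ∀ d, d ∈ WW hF H T := fun d => WW_eq hF hq H hT h0 h2 d
    exact hne (le_antisymm hT.1 (PP_le hp2 hF H h3))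
  intro X hX hXT
  refine le_antisymm hX (PP_le hp2 hF H fun c => ?_)
  have hle : X ≤ normalizer (T : Set (PSU 3 F q)) := fun x hx =>
    Transfer.FusionBasic.mem_normalizer_of_conj_mem fun y hy =>
      hT.2 y hy x (mul_mem (mul_mem (hX hx) (hT.1 hy)) (inv_mem (hX hx)))
  have hcz : ∀ c : F, c • zz F ∈ coordSub F 3 (3 - 2) := fun c => Submodule.smul_mem _ c single_zero_mem
  obtain ⟨μ, h⟩ := exists_isSiegel hF H (hcz c)
  have h3 : pr 3 F q (siegel hF e (c • zz F) μ h) ∈ ((X ⊔ T : Subgroup (PSU 3 F q)) : Set (PSU 3 F q)) := by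
    rw [hXT]; exact mem_PP.2 ⟨c, μ, h, rfl⟩
  rw [Subgroup.coe_mul_of_left_le_normalizer_right X T hle] at h3
  obtain ⟨x, hx, y, hy, e1⟩ := h3
  obtain ⟨a, μa, ha, rfl⟩ := mem_PP.1 (hX hx)
  obtain ⟨b, μb, hb, rfl⟩ := mem_PP.1 (hT.1 hy)
  have hb0 : b = 0 := hT0 _ _ _ hy
  have e2 : pr 3 F q (siegel hF e (a • zz F) μa ha) * pr 3 F q (siegel hF e (b • zz F) μb hb) =
      pr 3 F q (siegel hF e (c • zz F) μ h) := e1
  rw [← map_mul, siegel_mul hF ha hb] at e2
  have e3 := (pr_siegel_inj hF le_rfl H (add_mem (hcz a) (hcz b)) (hcz c) (ha.mul hF hb) h e2).1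
  have e4 : a = c := by
    have := congrFun e3 0
    simp [hb0] at this
    exact this
  rw [← e4]
  exact mem_WW.2 ⟨μa, ha, hx⟩

theorem genP_psu (hp2 : p ≠ 2) (hF : Fintype.card F = q ^ 2) : GenP p (PSU 3 F q) := by
  have hfin : Finite (PSU 3 F q) := Quotient.finite _
  have hq2 := two_le hF
  have hpq : p ∣ q := prime_dvd_q p hF
  have hq : 2 < q := by
    rcases Nat.lt_or_ge 2 q with h | h
    · exact h
    · exfalso
      have : q = 2 := by omega
      rw [this] at hpq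
      exact hp2 ((Nat.prime_dvd_prime_iff_eq hp.out Nat.prime_two).1 hpq)
  obtain ⟨e, f, H⟩ := exists_frame (n := 3) hF (by omega)
  -- the order of `SU₃(q)`
  have hcard : Nat.card (SU 3 F q) = q ^ 3 * ((q ^ 2 - 1) * (q ^ 3 + 1)) := by
    have h1 := Cfsg.Agent.LieClassical.GUOrder.card_GU_eq hF (n := 3) (by norm_num)
    rw [Cfsg.Agent.S0277.result hF 3, Finset.prod_range_succ, Finset.prod_range_succ, Finset.prod_range_one,
      if_pos (by decide), if_neg (by decide), if_pos (by decide)] at h1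
    have h2 : (q + 1) * (q ^ 3 * ((q ^ 2 - 1) * (q ^ 3 + 1))) = (q + 1) * Nat.card (SU 3 F q) := by
      rw [← h1]; norm_num; ring
    exact (Nat.eq_of_mul_eq_mul_left (Nat.succ_pos q) h2).symm
  have hcU : Nat.card (siegG hF e H.ee) = q ^ 3 := by
    have h1 := Cfsg.Agent.H934.IdxPSU.card_siegG hF H
    have h2 := Cfsg.Agent.H667.TwoPSUModel.card_siegG_le hF H
    have h3 : (q ^ 2) ^ (3 - 2) * q = q ^ 3 := by norm_num; ring
    omega
  have hidx : ¬ p ∣ (siegG hF e H.ee).index := by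
    have h1 := (siegG hF e H.ee).card_mul_index
    rw [hcU, hcard] at h1
    have h2 : (siegG hF e H.ee).index = (q ^ 2 - 1) * (q ^ 3 + 1) := Nat.eq_of_mul_eq_mul_left (by positivity) h1
    rw [h2, hp.out.dvd_mul]
    have h3 : p ∣ q ^ 2 := dvd_pow hpq (by norm_num)
    have h4 : p ∣ q ^ 3 := dvd_pow hpq (by norm_num)
    have h5 : 1 ≤ q ^ 2 := Nat.one_le_pow _ _ (by omega)
    have hp1 := hp.out.one_lt
    rintro (h | h)
    · have h6 : p ∣ q ^ 2 - (q ^ 2 - 1) := Nat.dvd_sub h3 h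
      have h7 : q ^ 2 - (q ^ 2 - 1) = 1 := by omega
      rw [h7, Nat.dvd_one] at h6
      omega
    · have h6 := (Nat.dvd_add_right h4).1 h
      rw [Nat.dvd_one] at h6
      omega
  have hS := (isPGroup_siegG hF p H.ee).toSylow hidx
  let S0 : Sylow p (SU 3 F q) := (isPGroup_siegG hF p H.ee).toSylow hidx
  let S : Sylow p (PSU 3 F q) := S0.mapSurjective (f := pr 3 F q) pr_surjective
  have hS' : (S : Subgroup (PSU 3 F q)) = PP hF H := rfl
  exact GenP.of_one S fun T hT hne => by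
    rw [hS'] at hT hne ⊢
    exact gen_psu hp2 hF hq H hT hne

end Cfsg.Agent.H760.StrU3
end
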